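import Cfsg.Agent.TwoFusionB.FieldModel
import Cfsg.Agent.SL2Tor.PSLOrders
import Cfsg.Agent.Lib.Frobenius.Complement
import Cfsg.Agent.Lib.LinearGroup.SmallPSL
import Cfsg.Agent.BSW7.Common

/-!
Groups with the element orders of `PSL(2, q)`, `q` even.
-/

namespace Cfsg.Agent.PSLOrders69

variable {G : Type*} [Group G] [Finite G]

theorem orderOf_mul_comm {a b : G} (hc : Commute a b) (h : Nat.Coprime (orderOf a) (orderOf b)) :
    orderOf (a * b) = orderOf a * orderOf b :=
  hc.orderOf_mul_eq_mul_orderOf_of_coprime h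

/-- With `N` the orders `1`, `2` and the divisors of the odd coprime numbers `u`, `v`. -/
theorem exists_psl_even {u v : ℕ} (hu : Odd u) (hv : Odd v) (hu1 : 3 ≤ u) (hv1 : 3 ≤ v)
    (huv : Nat.Coprime u v)
    (hspec : ∀ k : ℕ, (∃ g : G, orderOf g = k) ↔ k ∣ 2 ∨ k ∣ u ∨ k ∣ v) :
    ∃ (K : Type) (_ : Field K) (_ : Fintype K),
      Even (Fintype.card K) ∧ 4 ≤ Fintype.card K ∧
      Nonempty (G ≃* Matrix.ProjectiveSpecialLinearGroup (Fin 2) K) := by
  classical
  have := Fact.mk Nat.prime_two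
  have hcop2 : ∀ {k : ℕ}, Odd k → Nat.Coprime 2 k := fun h => Nat.coprime_two_left.2 h
  have hords : ∀ g : G, orderOf g ∣ 2 ∨ orderOf g ∣ u ∨ orderOf g ∣ v := fun g =>
    (hspec _).1 ⟨g, rfl⟩
  have hnone : ∀ g : G, Even (orderOf g) → orderOf g ∣ 2 := fun g hev => by
    rcases hords g with h | h | h
    · exact h
    · exact absurd hev (Nat.not_even_iff_odd.2 (hu.of_dvd_nat h))
    · exact absurd hev (Nat.not_even_iff_odd.2 (hv.of_dvd_nat h))
  -- centralisers of involutions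
  have hC : ∀ t : G, orderOf t = 2 → ∀ c ∈ Subgroup.centralizer ({t} : Set G), c ^ 2 = 1 := by
    intro t ht c hc
    by_cases hev : Even (orderOf c)
    · exact orderOf_dvd_iff_pow_eq_one.1 (hnone c hev)
    · have hodd := Nat.not_even_iff_odd.1 hev
      have hcomm : Commute t c := (Subgroup.mem_centralizer_singleton_iff.1 hc).symm
      have h1 : orderOf (t * c) = 2 * orderOf c := by
        rw [orderOf_mul_comm hcomm (by rw [ht]; exact hcop2 hodd), ht]
      have h2 := hnone (t * c) (h1 ▸ even_two_mul _)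
      rw [h1] at h2
      have h3 : orderOf c = 1 := by
        have := Nat.le_of_dvd two_pos h2
        have := orderOf_pos c
        omega
      rw [orderOf_eq_one_iff.1 h3, one_pow]
  have hCc : ∀ t : G, orderOf t = 2 →
      IsMulCommutative (Subgroup.centralizer ({t} : Set G)) := fun t ht =>
    ⟨⟨fun a b => (Commute.of_orderOf_dvd_two (G := Subgroup.centralizer ({t} : Set G))
      (fun g => orderOf_dvd_iff_pow_eq_one.2 (Subtype.ext (hC t ht g g.2))) a b).eq⟩⟩
  obtain ⟨t, ht⟩ := (hspec 2).2 (Or.inl dvd_rfl)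
  obtain ⟨a, ha⟩ := (hspec u).2 (Or.inr (Or.inl dvd_rfl))
  obtain ⟨b, hb⟩ := (hspec v).2 (Or.inr (Or.inr dvd_rfl))
  -- no commuting elements from the two odd classes
  have hsep : ∀ x y : G, Commute x y → orderOf x ∣ u → orderOf y ∣ v →
      orderOf x = 1 ∨ orderOf y = 1 := by
    intro x y hc hx hy
    have hxy := orderOf_mul_comm hc ((huv.coprime_dvd_left hx).coprime_dvd_right hy)
    rcases hords (x * y) with h | h | h <;> rw [hxy] at h
    · left
      exact Nat.dvd_one.1 ((hcop2 hu).gcd_eq_one ▸ Nat.dvd_gcd ((Dvd.intro _ rfl).trans h) hx)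
    · right
      exact Nat.dvd_one.1 (huv.gcd_eq_one ▸ Nat.dvd_gcd ((Dvd.intro_left _ rfl).trans h) hy)
    · left
      exact Nat.dvd_one.1 (huv.gcd_eq_one ▸ Nat.dvd_gcd hx ((Dvd.intro _ rfl).trans h))
  obtain ⟨T, hT⟩ : ∃ T : Sylow 2 G, t ∈ (T : Subgroup G) := by
    obtain ⟨T, hT⟩ := (IsPGroup.of_card (n := 1) (by rw [Nat.card_zpowers, ht, pow_one]) :
      IsPGroup 2 (Subgroup.zpowers t)).exists_le_sylow
    exact ⟨T, hT (Subgroup.mem_zpowers t)⟩
  have hTexp : ∀ x ∈ (T : Subgroup G), x ^ 2 = 1 := by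
    intro x hx
    obtain ⟨k, hk⟩ := IsPGroup.iff_orderOf.1 T.2 ⟨x, hx⟩
    rw [Subgroup.orderOf_mk] at hk
    rcases k with _ | k
    · have h1 : x = 1 := orderOf_eq_one_iff.1 (by simpa using hk)
      rw [h1, one_pow]
    · exact orderOf_dvd_iff_pow_eq_one.1 (hnone x ⟨2 ^ k, by rw [hk, pow_succ]; ring⟩)
  have hnc : ¬ IsCyclic (T : Subgroup G) := by
    intro hcyc
    obtain ⟨g, hg⟩ := hcyc.exists_generator
    have hT2 : Nat.card T ∣ 2 := by
      rw [← orderOf_eq_card_of_forall_mem_zpowers hg, ← Subgroup.orderOf_coe]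
      exact orderOf_dvd_of_pow_eq_one (hTexp g g.2)
    have hG2 : 2 ∣ Nat.card G := ht ▸ orderOf_dvd_natCard t
    have hcompl := IsCyclic.isComplement' ((Nat.minFac_eq_two_iff _).2 hG2) hcyc
    set K := (MonoidHom.transferSylow T (hcyc.normalizer_le_centralizer
      ((Nat.minFac_eq_two_iff _).2 hG2))).ker with hK
    have hodd : Odd (Nat.card K) := by
      rw [← hcompl.index_eq_card, Nat.odd_iff, Nat.two_dvd_ne_zero.symm]
      exact T.not_dvd_index
    have hmemK : ∀ x : G, Odd (orderOf x) → x ∈ K := by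
      intro x hx
      have h1 := (orderOf_map_dvd (QuotientGroup.mk' K) x)
      have h2 : orderOf (QuotientGroup.mk' K x) ∣ 2 := by
        refine (orderOf_dvd_natCard _).trans ?_
        rw [← Subgroup.index_eq_card, hcompl.symm.index_eq_card]
        exact hT2
      rw [← QuotientGroup.eq_one_iff, ← orderOf_eq_one_iff]
      exact Nat.dvd_one.1 ((hcop2 hx).gcd_eq_one ▸ Nat.dvd_gcd h2 h1)
    have htfix : ∀ y ∈ K, t * y * t⁻¹ = y → y = 1 := fun y hy e => by
      have h1 : y ^ 2 = 1 := hC t ht y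
        (Subgroup.mem_centralizer_singleton_iff.2 (mul_inv_eq_iff_eq_mul.1 e).symm)
      exact orderOf_eq_one_iff.1 (Nat.dvd_one.1 ((hcop2 hodd).gcd_eq_one ▸
        Nat.dvd_gcd (orderOf_dvd_of_pow_eq_one h1) (Subgroup.orderOf_dvd_natCard K hy)))
    have hinv : ∀ y ∈ K, t * y * t⁻¹ = y⁻¹ := fun y hy =>
      BSW7.inverts_of_fpf (by rw [← sq, ← ht, pow_orderOf_eq_one])
        (fun z hz => (inferInstance : K.Normal).conj_mem z hz t) htfix hy
    have haK := hmemK a (ha ▸ hu)
    have hbK := hmemK b (hb ▸ hv)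
    have hab : Commute a b := by
      have h1 := hinv _ (mul_mem haK hbK)
      rw [show t * (a * b) * t⁻¹ = (t * a * t⁻¹) * (t * b * t⁻¹) by group, hinv a haK, hinv b hbK,
        ← mul_inv_rev] at h1
      exact (inv_injective h1).symm
    rcases hsep a b hab ha.dvd hb.dvd with e | e <;> omega
  have hnn : ¬ (T : Subgroup G).Normal := by
    intro hn
    obtain ⟨H, hH⟩ := Subgroup.exists_right_complement'_of_coprime (N := (T : Subgroup G))
      (by
        obtain ⟨k, hk⟩ := T.2.exists_card_eq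
        rw [hk]
        exact Nat.Coprime.pow_left k ((Nat.prime_two.coprime_iff_not_dvd).2 T.not_dvd_index))
    have hHodd : Odd (Nat.card H) := by
      rw [← hH.symm.index_eq_card, Nat.odd_iff, Nat.two_dvd_ne_zero.symm]
      exact T.not_dvd_index
    have hf : Frobenius.IsFPF H (T : Subgroup G) := by
      refine Frobenius.isFPF_of_normal fun x hx hx1 => ?_
      rw [Subgroup.eq_bot_iff_forall]
      intro w hw
      obtain ⟨hwT, hwC⟩ := Subgroup.mem_inf.1 hw
      by_contra hw1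
      have hxC : x ∈ Subgroup.centralizer ({w} : Set G) := by
        rw [Subgroup.mem_centralizer_singleton_iff] at hwC ⊢
        exact hwC.symm
      have h2 := hC w (orderOf_eq_prime (hTexp w hwT) hw1) x hxC
      exact hx1 (orderOf_eq_one_iff.1 (Nat.dvd_one.1 ((hcop2 hHodd).gcd_eq_one ▸
        Nat.dvd_gcd (orderOf_dvd_of_pow_eq_one h2) (Subgroup.orderOf_dvd_natCard H hx))))
    have hTne : (T : Subgroup G) ≠ ⊥ := fun e => by
      rw [e, Subgroup.mem_bot] at hT
      rw [hT, orderOf_one] at ht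
      omega
    have hdiv : ∀ (r : ℕ) (x : G), r.Prime → r ≠ 2 → orderOf x = r → r ∣ Nat.card H := by
      intro r x hr hr2 hx
      have h1 : r ∣ Nat.card T * Nat.card H := by
        rw [hH.card_mul, ← hx]; exact orderOf_dvd_natCard x
      refine (hr.dvd_mul.1 h1).resolve_left fun h => ?_
      obtain ⟨k, hk⟩ := T.2.exists_card_eq
      exact hr2 ((Nat.prime_dvd_prime_iff_eq hr Nat.prime_two).1 (hr.dvd_of_dvd_pow (hk ▸ h)))
    have hex : ∀ w, Odd w → 3 ≤ w → (∃ g : G, orderOf g = w) →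
        ∃ r, r.Prime ∧ r ∣ w ∧ r ∣ Nat.card H := by
      rintro w hw hw3 ⟨g, hg⟩
      obtain ⟨r, hr, hrw⟩ := Nat.exists_prime_and_dvd (show w ≠ 1 by omega)
      have hr2 : r ≠ 2 := fun e => by
        subst e
        exact Nat.not_even_iff_odd.2 hw (even_iff_two_dvd.2 hrw)
      exact ⟨r, hr, hrw, hdiv r _ hr hr2
        (orderOf_pow_orderOf_div (by omega) (hg.symm ▸ hrw))⟩
    obtain ⟨r, hr, hru, hrH⟩ := hex u hu hu1 ⟨a, ha⟩
    obtain ⟨s, hs, hsv, hsH⟩ := hex v hv hv1 ⟨b, hb⟩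
    have hHne : H ≠ ⊥ := fun e => by
      rw [e, Subgroup.card_bot] at hrH
      exact hr.not_dvd_one hrH
    have := (Subgroup.nontrivial_iff_ne_bot _).2 (hf.center_ne_bot hTne hHne)
    obtain ⟨⟨z, hz⟩, hzne⟩ := exists_ne (1 : Subgroup.center H)
    have hz1 : (z : G) ≠ 1 := fun e => hzne (Subtype.ext (Subtype.ext e))
    have hzH : ∀ x ∈ H, Commute (z : G) x := fun x hx =>
      (congrArg Subtype.val (Subgroup.mem_center_iff.1 hz ⟨x, hx⟩)).symm
    have hzodd : Odd (orderOf (z : G)) := hHodd.of_dvd_nat (Subgroup.orderOf_dvd_natCard H z.2)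
    have := Fact.mk hr
    have := Fact.mk hs
    obtain ⟨x, hx⟩ := exists_prime_orderOf_dvd_card' (G := H) r hrH
    obtain ⟨y, hy⟩ := exists_prime_orderOf_dvd_card' (G := H) s hsH
    rw [← Subgroup.orderOf_coe] at hx hy
    rcases hords z with h | h | h
    · exact hz1 (orderOf_eq_one_iff.1 (Nat.dvd_one.1 ((hcop2 hzodd).gcd_eq_one ▸
        Nat.dvd_gcd h dvd_rfl)))
    · rcases hsep z y (hzH y y.2) h (hy ▸ hsv) with e | e
      · exact hz1 (orderOf_eq_one_iff.1 e)
      · rw [hy] at e; exact hs.ne_one e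
    · rcases hsep x z (hzH x x.2).symm (hx ▸ hru) h with e | e
      · rw [hx] at e; exact hr.ne_one e
      · exact hz1 (orderOf_eq_one_iff.1 e)
  obtain ⟨K, iF, iT, hK, he⟩ :=
    (TwoFusionB.ECHyp.mk hnc hnn fun t ht => ⟨hCc t ht, hC t ht⟩).exists_iso_PSL2
  obtain ⟨k, hk⟩ := T.2.exists_card_eq
  rcases k with _ | _ | k
  · exact absurd (Fintype.one_lt_card (α := K)) (by rw [hK, hk]; norm_num)
  · exact absurd (isCyclic_of_prime_card (p := 2) (by simpa using hk)) hnc
  · refine ⟨K, iF, iT, ?_, ?_, he⟩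
    · rw [hK, hk]
      simp [parity_simps]
    · rw [hK, hk]
      exact le_trans (by norm_num) (Nat.pow_le_pow_right two_pos (show 2 ≤ k + 2 by omega))

end Cfsg.Agent.PSLOrders69
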