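import Cfsg.Agent.BSW7.Main
import Cfsg.Agent.BSW7.Common
import Cfsg.Agent.BSW7.PSL
import Cfsg.Agent.Lib.Solvable.FrobeniusCount

/-!
Groups with the order and the element orders of `PSL(2, q)`, `q` odd: the centralizer of an
involution is dihedral, so the theorem of Brauer, Suzuki and Wall applies.
-/

namespace Cfsg.Agent.PSLOrders69

open Subgroup

/-- The numerical data of `PSL(2, q)`, `q` odd: `m` is the even and `n` the odd one of `(q ± 1) / 2`. -/
structure OddData (G : Type*) [Group G] (p q m n : ℕ) : Prop where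
  hp : p.Prime
  hp2 : p ≠ 2
  hq : ∃ f, q = p ^ f
  h5 : 5 ≤ q
  hn : Odd n
  hn3 : 3 ≤ n
  hm : Even m
  hm2 : 2 ≤ m
  rel : (q = 2 * m + 1 ∧ q + 1 = 2 * n) ∨ (q + 1 = 2 * m ∧ q = 2 * n + 1)
  card : Nat.card G = 2 * (q * m * n)
  spec : ∀ k : ℕ, (∃ g : G, orderOf g = k) ↔ k ∣ p ∨ k ∣ m ∨ k ∣ n

/-- A cyclic group has at most one subgroup of each order. -/
theorem eq_of_card_eq {A : Type*} [Group A] [Finite A] [IsCyclic A] {H K : Subgroup A}
    (h : Nat.card H = Nat.card K) : H = K := by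
  classical
  haveI := Fintype.ofFinite A
  have key : ∀ L : Subgroup A, (Finset.univ.filter fun x => x ∈ L) =
      Finset.univ.filter fun x : A => x ^ Nat.card L = 1 := fun L => by
    refine Finset.eq_of_subset_of_card_le (fun x hx => ?_) ?_
    · simp only [Finset.mem_filter, Finset.mem_univ, true_and] at hx ⊢
      exact orderOf_dvd_iff_pow_eq_one.1 (Subgroup.orderOf_dvd_natCard L hx)
    · refine (IsCyclic.card_pow_eq_one_le Nat.card_pos).trans ?_
      rw [← Fintype.card_subtype, ← Nat.card_eq_fintype_card]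
  ext x
  have := congrArg (x ∈ ·) ((key H).trans (h ▸ (key K).symm))
  simpa using this

namespace OddData

variable {G : Type*} [Group G] [Finite G] {p q m n : ℕ} (h : OddData G p q m n)
include h

theorem p_dvd_q : p ∣ q := by
  obtain ⟨f, rfl⟩ := h.hq
  rcases f with _ | f
  · have := h.h5; simp at this
  · exact dvd_pow_self p f.succ_ne_zero

theorem q_odd : Odd q := by
  rcases h.rel with ⟨e, -⟩ | ⟨-, e⟩
  · exact ⟨m, e⟩
  · exact ⟨n, e⟩

theorem four_mul : 4 * (m * n) + 1 = q * q := by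
  rcases h.rel with ⟨e1, e2⟩ | ⟨e1, e2⟩ <;> nlinarith

theorem q_eq : m + n = q := by
  rcases h.rel with ⟨e1, e2⟩ | ⟨e1, e2⟩ <;> omega

theorem cop_qm : Nat.Coprime q (2 * m) := by
  refine Nat.coprime_of_dvd' fun k hk h1 h2 => ?_
  rcases h.rel with ⟨e, -⟩ | ⟨e, -⟩
  · exact (Nat.dvd_add_right h2).1 (e ▸ h1)
  · exact (Nat.dvd_add_right h1).1 (e.symm ▸ h2)

theorem cop_qn : Nat.Coprime q n := by
  refine Nat.coprime_of_dvd' fun k hk h1 h2 => ?_
  rcases h.rel with ⟨-, e⟩ | ⟨-, e⟩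
  · exact (Nat.dvd_add_right h1).1 (e.symm ▸ h2.mul_left 2)
  · exact (Nat.dvd_add_right (h2.mul_left 2)).1 (e ▸ h1)

theorem cop_mn : Nat.Coprime m n := by
  refine Nat.coprime_of_dvd' fun k hk h1 h2 => ?_
  have h3 : k ∣ q := h.q_eq ▸ dvd_add h1 h2
  exact (Nat.dvd_gcd h3 h2).trans h.cop_qn.gcd_eq_one.dvd

theorem cop_2mn : Nat.Coprime (2 * m) n :=
  Nat.Coprime.mul_left (Nat.coprime_two_left.2 h.hn) h.cop_mn

theorem p_not_m : ¬ p ∣ 2 * m := fun h1 => h.hp.ne_one (Nat.dvd_one.1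
  (h.cop_qm.gcd_eq_one ▸ Nat.dvd_gcd h.p_dvd_q h1))

theorem p_not_n : ¬ p ∣ n := fun h1 => h.hp.ne_one (Nat.dvd_one.1
  (h.cop_qn.gcd_eq_one ▸ Nat.dvd_gcd h.p_dvd_q h1))

theorem cop_pm : Nat.Coprime p m :=
  (h.hp.coprime_iff_not_dvd).2 fun h1 => h.p_not_m (h1.mul_left 2)

theorem cop_pn : Nat.Coprime p n := (h.hp.coprime_iff_not_dvd).2 h.p_not_n

/-- A prime dividing the order belongs to exactly one of the three classes. -/
theorem prime_class {s : ℕ} (hs : s.Prime) (hd : s ∣ Nat.card G) : s ∣ p ∨ s ∣ m ∨ s ∣ n := by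
  have := Fact.mk hs
  obtain ⟨g, hg⟩ := exists_prime_orderOf_dvd_card' (G := G) s hd
  exact (h.spec s).1 ⟨g, hg⟩

/-- Elements of prime orders from different classes do not commute. -/
theorem not_commute {a b : G} {r s x y : ℕ} (hr : r.Prime) (hs : s.Prime) (ha : orderOf a = r)
    (hb : orderOf b = s) (hc : Commute a b) (hrx : r ∣ x) (hsy : s ∣ y)
    (hxy : (x = p ∧ y = m) ∨ (x = p ∧ y = n) ∨ (x = m ∧ y = n)) : False := by
  have hcop : ∀ {u v : ℕ}, Nat.Coprime u v → ∀ k, k ∣ u → k ∣ v → k = 1 := fun huv k h1 h2 =>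
    Nat.dvd_one.1 (huv.gcd_eq_one ▸ Nat.dvd_gcd h1 h2)
  have hrs : r ≠ s := by
    rintro rfl
    rcases hxy with ⟨rfl, rfl⟩ | ⟨rfl, rfl⟩ | ⟨rfl, rfl⟩
    · exact hr.ne_one (hcop h.cop_pm r hrx hsy)
    · exact hr.ne_one (hcop h.cop_pn r hrx hsy)
    · exact hr.ne_one (hcop h.cop_mn r hrx hsy)
  have ho := hc.orderOf_mul_eq_mul_orderOf_of_coprime
    (by rw [ha, hb]; exact (Nat.coprime_primes hr hs).2 hrs)
  rw [ha, hb] at ho
  rcases (h.spec _).1 ⟨_, ho⟩ with h1 | h1 | h1
  all_goals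
    have hr1 : r ∣ _ := (dvd_mul_right r s).trans h1
    have hs1 : s ∣ _ := (dvd_mul_left s r).trans h1
    rcases hxy with ⟨rfl, rfl⟩ | ⟨rfl, rfl⟩ | ⟨rfl, rfl⟩ <;>
      first
        | exact hs.ne_one (hcop h.cop_pm s hs1 hsy)
        | exact hs.ne_one (hcop h.cop_pn s hs1 hsy)
        | exact hs.ne_one (hcop h.cop_mn s hs1 hsy)
        | exact hr.ne_one (hcop h.cop_pm r hrx hr1)
        | exact hr.ne_one (hcop h.cop_pn r hrx hr1)
        | exact hr.ne_one (hcop h.cop_mn r hrx hr1)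
        | exact hr.ne_one (hcop h.cop_pm r hr1 hrx)
        | exact hr.ne_one (hcop h.cop_pn r hr1 hrx)
        | exact hr.ne_one (hcop h.cop_mn r hr1 hrx)

/-- The centralizer of an element of one class avoids the primes of another. -/
theorem cent_not_dvd {g : G} {x : ℕ} (hg : g ≠ 1) (hgx : orderOf g ∣ x) {s y : ℕ} (hs : s.Prime)
    (hsy : s ∣ y)
    (hxy : (x = p ∧ (y = m ∨ y = n)) ∨ (x = m ∧ (y = p ∨ y = n)) ∨ (x = n ∧ (y = p ∨ y = m))) :
    ¬ s ∣ Nat.card (centralizer ({g} : Set G)) := by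
  intro hd
  have := Fact.mk hs
  obtain ⟨c, hc⟩ := exists_prime_orderOf_dvd_card' (G := centralizer ({g} : Set G)) s hd
  rw [← Subgroup.orderOf_coe] at hc
  obtain ⟨r, hr, hrg⟩ := Nat.exists_prime_and_dvd (fun e => hg (orderOf_eq_one_iff.1 e))
  have hcomm : Commute g (c : G) := (mem_centralizer_singleton_iff.1 c.2).symm
  have ha : orderOf (g ^ (orderOf g / r)) = r := orderOf_pow_orderOf_div (orderOf_pos g).ne' hrg
  have h1 := hcomm.pow_left (orderOf g / r)
  have hrx := hrg.trans hgx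
  rcases hxy with ⟨rfl, rfl | rfl⟩ | ⟨rfl, rfl | rfl⟩ | ⟨rfl, rfl | rfl⟩
  · exact h.not_commute hr hs ha hc h1 hrx hsy (Or.inl ⟨rfl, rfl⟩)
  · exact h.not_commute hr hs ha hc h1 hrx hsy (Or.inr (Or.inl ⟨rfl, rfl⟩))
  · exact h.not_commute hs hr hc ha h1.symm hsy hrx (Or.inl ⟨rfl, rfl⟩)
  · exact h.not_commute hr hs ha hc h1 hrx hsy (Or.inr (Or.inr ⟨rfl, rfl⟩))
  · exact h.not_commute hs hr hc ha h1.symm hsy hrx (Or.inr (Or.inl ⟨rfl, rfl⟩))
  · exact h.not_commute hs hr hc ha h1.symm hsy hrx (Or.inr (Or.inr ⟨rfl, rfl⟩))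

/-- Only `p` divides `q`. -/
theorem eq_p {s : ℕ} (hs : s.Prime) (hsq : s ∣ q) : s = p := by
  obtain ⟨f, hf⟩ := h.hq
  exact (Nat.prime_dvd_prime_iff_eq hs h.hp).1 (hs.dvd_of_dvd_pow (hf ▸ hsq))

/-- A prime dividing `2 * m` divides `m`. -/
theorem dvd_m {s : ℕ} (hs : s.Prime) (hsm : s ∣ 2 * m) : s ∣ m := by
  rcases hs.dvd_mul.1 hsm with h2 | h2
  · rw [(Nat.prime_dvd_prime_iff_eq hs Nat.prime_two).1 h2]; exact h.hm.two_dvd
  · exact h2

theorem cent_p {g : G} (hg : g ≠ 1) (hgp : orderOf g ∣ p) :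
    Nat.card (centralizer ({g} : Set G)) ∣ q := by
  refine Nat.Coprime.dvd_of_dvd_mul_right (n := 2 * m * n) ?_ ?_
  · refine Nat.coprime_of_dvd' fun s hs h1 h2 => absurd h1 ?_
    rcases hs.dvd_mul.1 h2 with h3 | h3
    · exact h.cent_not_dvd hg hgp hs (h.dvd_m hs h3) (Or.inl ⟨rfl, Or.inl rfl⟩)
    · exact h.cent_not_dvd hg hgp hs h3 (Or.inl ⟨rfl, Or.inr rfl⟩)
  · rw [show q * (2 * m * n) = Nat.card G by rw [h.card]; ring]
    exact card_subgroup_dvd_card _

theorem cent_m {g : G} (hg : g ≠ 1) (hgm : orderOf g ∣ m) :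
    Nat.card (centralizer ({g} : Set G)) ∣ 2 * m := by
  refine Nat.Coprime.dvd_of_dvd_mul_right (n := q * n) ?_ ?_
  · refine Nat.coprime_of_dvd' fun s hs h1 h2 => absurd h1 ?_
    rcases hs.dvd_mul.1 h2 with h3 | h3
    · exact h.cent_not_dvd hg hgm hs (h.eq_p hs h3).dvd (Or.inr (Or.inl ⟨rfl, Or.inl rfl⟩))
    · exact h.cent_not_dvd hg hgm hs h3 (Or.inr (Or.inl ⟨rfl, Or.inr rfl⟩))
  · rw [show 2 * m * (q * n) = Nat.card G by rw [h.card]; ring]
    exact card_subgroup_dvd_card _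

theorem cent_n {g : G} (hg : g ≠ 1) (hgn : orderOf g ∣ n) :
    Nat.card (centralizer ({g} : Set G)) ∣ n := by
  refine Nat.Coprime.dvd_of_dvd_mul_right (n := q * (2 * m)) ?_ ?_
  · refine Nat.coprime_of_dvd' fun s hs h1 h2 => absurd h1 ?_
    rcases hs.dvd_mul.1 h2 with h3 | h3
    · exact h.cent_not_dvd hg hgn hs (h.eq_p hs h3).dvd (Or.inr (Or.inr ⟨rfl, Or.inl rfl⟩))
    · exact h.cent_not_dvd hg hgn hs (h.dvd_m hs h3) (Or.inr (Or.inr ⟨rfl, Or.inr rfl⟩))
  · rw [show n * (q * (2 * m)) = Nat.card G by rw [h.card]; ring]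
    exact card_subgroup_dvd_card _

/-- There are `q² - 1` elements of order `p`. -/
theorem card_p : Nat.card {g : G // g ≠ 1 ∧ orderOf g ∣ p} + 1 = q * q := by
  classical
  haveI := Fintype.ofFinite G
  have := Fact.mk h.hp
  set P := {g : G // g ≠ 1 ∧ orderOf g ∣ p}
  have hdiv : 2 * (m * n) ∣ Nat.card P := by
    haveI := Fintype.ofFinite (ConjClasses G)
    rw [← Nat.card_congr (Equiv.sigmaFiberEquiv fun g : P => ConjClasses.mk (g : G)), Nat.card_sigma]
    refine Finset.dvd_sum fun c _ => ?_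
    by_cases hne : Nonempty {g : P // ConjClasses.mk (g : G) = c}
    · obtain ⟨⟨⟨g, hg1, hgp⟩, hgc⟩⟩ := hne
      let e : {g' : P // ConjClasses.mk (g' : G) = c} ≃ {x : G // IsConj g x} :=
        { toFun := fun x => ⟨x.1.1, ConjClasses.mk_eq_mk_iff_isConj.1 (hgc.trans x.2.symm)⟩
          invFun := fun x => ⟨⟨x.1, by
            obtain ⟨z, hz⟩ := isConj_iff.1 x.2
            rw [← hz]
            refine ⟨fun e => hg1 (conj_eq_one_iff.1 e), ?_⟩
            rwa [← MulAut.conj_apply, MulEquiv.orderOf_eq]⟩,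
            (ConjClasses.mk_eq_mk_iff_isConj.2 x.2.symm).trans hgc⟩
          left_inv := fun x => rfl
          right_inv := fun x => rfl }
      rw [Nat.card_congr e, Solvable.card_conj_class]
      obtain ⟨k, hk⟩ := h.cent_p hg1 hgp
      refine ⟨k, Nat.eq_of_mul_eq_mul_left (Nat.card_pos (α := centralizer ({g} : Set G))) ?_⟩
      rw [Subgroup.card_mul_index, h.card, hk]
      ring
    · rw [not_nonempty_iff] at hne
      rw [Nat.card_of_isEmpty]
      exact dvd_zero _
  obtain ⟨k, hk⟩ := hdiv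
  have hsub : q ∣ Nat.card {g : G // g ^ q = 1} := by
    have := Solvable.gcd_dvd_card_pow_eq_one (G := G) q
    rwa [Nat.gcd_eq_left (h.card ▸ Dvd.intro (2 * (m * n)) (by ring))] at this
  have hsol : Nat.card {g : G // g ^ q = 1} = Nat.card P + 1 := by
    rw [← Nat.card_congr (Equiv.sumCompl fun g : {g : G // g ^ q = 1} => (g : G) = 1),
      Nat.card_sum, add_comm]
    congr 1
    · refine Nat.card_congr ((Equiv.subtypeSubtypeEquivSubtypeInter (fun g : G => g ^ q = 1)
        (fun g : G => ¬ g = 1)).trans (Equiv.subtypeEquivRight fun g => ?_))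
      constructor
      · rintro ⟨h1, h2⟩
        refine ⟨h2, ?_⟩
        obtain ⟨f, hf⟩ := h.hq
        rcases (h.spec _).1 ⟨g, rfl⟩ with h3 | h3 | h3
        · exact h3
        all_goals
          obtain ⟨s, hs, hsg⟩ := Nat.exists_prime_and_dvd (fun e => h2 (orderOf_eq_one_iff.1 e))
          have := h.eq_p hs (hsg.trans (orderOf_dvd_of_pow_eq_one h1))
          subst this
          first
            | exact absurd ((hsg.trans h3).mul_left 2) h.p_not_m
            | exact absurd (hsg.trans h3) h.p_not_n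
      · rintro ⟨h2, h3⟩
        exact ⟨orderOf_dvd_iff_pow_eq_one.1 (h3.trans h.p_dvd_q), h2⟩
    · rw [Nat.card_eq_one_iff_unique]
      exact ⟨⟨fun a b => Subtype.ext (Subtype.ext (a.2.trans b.2.symm))⟩,
        ⟨⟨⟨1, one_pow q⟩, rfl⟩⟩⟩
  have hlt : Nat.card P < Nat.card G := by
    rw [Nat.card_eq_fintype_card, Nat.card_eq_fintype_card]
    exact Fintype.card_subtype_lt (x := 1) (by simp)
  rw [hsol, hk] at hsub
  rw [hk, h.card] at hlt
  have hmn : 0 < m * n := by have := h.hm2; have := h.hn3; positivity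
  have hk2 : k = 2 := by
    have hkq : k < q := by nlinarith
    obtain ⟨c, hc⟩ := hsub
    have h4 := h.four_mul
    have e : (2 : ℤ) - k = (q : ℤ) * (2 * c - k * q) := by
      push_cast [← Int.natCast_inj] at hc h4
      linear_combination 2 * hc - (k : ℤ) * h4
    by_contra hne
    have hd : (q : ℤ) ∣ 2 - k := ⟨_, e⟩
    have h5 := h.h5
    have := Int.le_of_dvd (show (0 : ℤ) < |2 - (k : ℤ)| from abs_pos.2 (by omega))
      ((dvd_abs _ _).2 hd)
    rcases le_or_gt (k : ℤ) 2 with h6 | h6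
    · rw [abs_of_nonneg (by omega)] at this; omega
    · rw [abs_of_neg (by omega)] at this; omega
  rw [hk, hk2, ← h.four_mul]
  ring

/-- An element fixing a generator of the order `r` subgroup, in a cyclic subgroup of index at most
two in its centralizer. -/
theorem sylow_count {A : Subgroup G} [IsCyclic A] {z : G} (hz : z ∈ A) {r : ℕ} (hr : r.Prime)
    (hzr : orderOf z = r) (hfull : ¬ r ∣ A.index)
    (hnorm : centralizer ({z} : Set G) ≤ normalizer (A : Set G)) :
    ∃ R : Sylow r G, (R : Subgroup G) ≤ A ∧ z ∈ (R : Subgroup G) ∧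
      normalizer (A : Set G) ≤ normalizer ((R : Subgroup G) : Set G) ∧
      normalizer ((R : Subgroup G) : Set G) ≤ normalizer (zpowers z : Set G) ∧
      ∃ v, 0 < v ∧ v < r ∧ Nat.card (normalizer ((R : Subgroup G) : Set G)) =
        v * Nat.card (centralizer ({z} : Set G)) ∧
        (centralizer ({z} : Set G)).index ≡ v [MOD r] := by
  classical
  have := Fact.mk hr
  obtain ⟨R₀⟩ := (inferInstance : Nonempty (Sylow r A))
  set R' := (R₀ : Subgroup A).map A.subtype with hR'
  have hR'p : IsPGroup r R' := R₀.2.map _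
  have hidx : ¬ r ∣ R'.index := by
    rw [hR', Subgroup.index_map_subtype]
    exact fun hd => (hr.dvd_mul.1 hd).elim R₀.not_dvd_index hfull
  set R : Sylow r G := hR'p.toSylow hidx with hRdef
  have hRA : (R : Subgroup G) ≤ A := map_subtype_le _
  have hRcard : r ∣ Nat.card R := R.dvd_card_of_dvd_card (hzr ▸ orderOf_dvd_natCard z)
  obtain ⟨w, hw⟩ := exists_prime_orderOf_dvd_card' (G := (R : Subgroup G)) r hRcard
  rw [← Subgroup.orderOf_coe] at hw
  -- a cyclic group has one subgroup of each order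
  have huniq : ∀ a b : G, a ∈ A → b ∈ A → orderOf a = orderOf b → zpowers a = zpowers b := by
    intro a b ha hb hab
    have h1 := eq_of_card_eq (H := zpowers (⟨a, ha⟩ : A)) (K := zpowers (⟨b, hb⟩ : A))
      (by rw [Nat.card_zpowers, Nat.card_zpowers, Subgroup.orderOf_mk, Subgroup.orderOf_mk, hab])
    have := congrArg (Subgroup.map A.subtype) h1
    rwa [MonoidHom.map_zpowers, MonoidHom.map_zpowers] at this
  have hzw : zpowers z = zpowers (w : G) := huniq z w hz (hRA w.2) (hzr.trans hw.symm)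
  have hzR : z ∈ (R : Subgroup G) :=
    (zpowers_le.2 w.2) (hzw ▸ mem_zpowers z)
  have hNA : normalizer (A : Set G) ≤ normalizer ((R : Subgroup G) : Set G) := by
    intro g hg
    rw [mem_normalizer_iff_map_conj_eq]
    have hAg : A.map (MulAut.conj g).toMonoidHom = A :=
      mem_normalizer_iff_map_conj_eq.1 hg
    have hle : (R : Subgroup G).map (MulAut.conj g).toMonoidHom ≤ A :=
      (map_mono hRA).trans hAg.le
    have h1 := eq_of_card_eq (H := ((R : Subgroup G).map (MulAut.conj g).toMonoidHom).subgroupOf A)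
      (K := (R : Subgroup G).subgroupOf A) (by
        rw [Nat.card_congr (subgroupOfEquivOfLe hle).toEquiv,
          Nat.card_congr (subgroupOfEquivOfLe hRA).toEquiv,
          card_map_of_injective (MulAut.conj g).injective])
    have := congrArg (Subgroup.map A.subtype) h1
    rwa [map_subgroupOf_eq_of_le hle, map_subgroupOf_eq_of_le hRA] at this
  have hC := hnorm.trans hNA
  have hRz : ∀ g ∈ normalizer ((R : Subgroup G) : Set G), g * z * g⁻¹ ∈ zpowers z := by
    intro g hg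
    have h1 : g * z * g⁻¹ ∈ A := hRA ((mem_normalizer_iff.1 hg z).1 hzR)
    rw [huniq z _ hz h1 (by rw [← MulAut.conj_apply, MulEquiv.orderOf_eq])]
    exact mem_zpowers _
  have hN : normalizer ((R : Subgroup G) : Set G) ≤ normalizer (zpowers z : Set G) := by
    intro g hg
    rw [mem_normalizer_iff_map_conj_eq]
    refine eq_of_le_of_card_ge ?_ (card_map_of_injective (MulAut.conj g).injective).ge
    rw [MonoidHom.map_zpowers]
    exact zpowers_le.2 (hRz g hg)
  refine ⟨R, hRA, hzR, hNA, hN, ?_⟩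
  set C := centralizer ({z} : Set G)
  set N := normalizer ((R : Subgroup G) : Set G)
  refine ⟨C.relIndex N, Nat.pos_of_ne_zero fun e => ?_, ?_, ?_, ?_⟩
  · have := relIndex_mul_index hC
    rw [e, zero_mul] at this
    exact index_ne_zero_of_finite this.symm
  · have hlt : Nat.card {x : zpowers z // (x : G) ≠ 1} < r := by
      haveI := Fintype.ofFinite (zpowers z)
      rw [Nat.card_eq_fintype_card]
      calc Fintype.card {x : zpowers z // (x : G) ≠ 1} < Fintype.card (zpowers z) :=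
            Fintype.card_subtype_lt (x := 1) (by simp)
        _ = r := by rw [← Nat.card_eq_fintype_card, Nat.card_zpowers, hzr]
    refine lt_of_le_of_lt ?_ hlt
    rw [Subgroup.relIndex, Subgroup.index]
    have hzne : z ≠ 1 := fun e => hr.ne_one (by rw [← hzr, e, orderOf_one])
    refine Nat.card_le_card_of_injective (fun c => Quotient.liftOn' c
      (fun g : N => (⟨⟨(g : G) * z * (g : G)⁻¹, hRz g g.2⟩,
        fun e => hzne (conj_eq_one_iff.1 e)⟩ : {x : zpowers z // (x : G) ≠ 1}))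
      (fun a b hab => ?_)) ?_
    · rw [QuotientGroup.leftRel_apply, mem_subgroupOf] at hab
      have h1 := mem_centralizer_singleton_iff.1 hab
      simp only [coe_mul, InvMemClass.coe_inv] at h1
      refine Subtype.ext (Subtype.ext ?_)
      show (a : G) * z * (a : G)⁻¹ = (b : G) * z * (b : G)⁻¹
      calc (a : G) * z * (a : G)⁻¹ = a * (z * ((a : G)⁻¹ * b)) * (b : G)⁻¹ := by group
        _ = a * ((a : G)⁻¹ * b * z) * (b : G)⁻¹ := by rw [h1]
        _ = _ := by group
    · rintro ⟨a⟩ ⟨b⟩ hab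
      refine Quotient.sound' ?_
      rw [QuotientGroup.leftRel_apply, mem_subgroupOf]
      refine mem_centralizer_singleton_iff.2 ?_
      have h1 : (a : G) * z * (a : G)⁻¹ = (b : G) * z * (b : G)⁻¹ :=
        congrArg (fun x : {x : zpowers z // (x : G) ≠ 1} => ((x.1 : zpowers z) : G)) hab
      simp only [coe_mul, InvMemClass.coe_inv]
      calc (a : G)⁻¹ * b * z = (a : G)⁻¹ * (b * z * (b : G)⁻¹) * b := by group
        _ = (a : G)⁻¹ * (a * z * (a : G)⁻¹) * b := by rw [h1]
        _ = _ := by group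
  · rw [← relIndex_bot_left N, ← relIndex_mul_relIndex ⊥ C N bot_le hC, relIndex_bot_left, mul_comm]
  · have e : N.index = Nat.card (Sylow r G) := (Sylow.card_eq_index_normalizer R).symm
    rw [← relIndex_mul_index hC, e]
    simpa using (card_sylow_modEq_one r G).mul_left (C.relIndex N)

end OddData

end Cfsg.Agent.PSLOrders69
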