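import Cfsg.Agent.PSLOrders69.Odd

/-!
Groups with the order and the element orders of `PSL(2, q)`, `q` odd, are isomorphic to it.
-/

namespace Cfsg.Agent.PSLOrders69

open Subgroup

section General

variable {G : Type*} [Group G] [Finite G]

theorem le_normalizer_of_card_eq {A B : Subgroup G} (hAB : A ≤ B)
    (hcard : Nat.card B = 2 * Nat.card A) : B ≤ normalizer (A : Set G) := by
  intro b hb
  have hidx : (A.subgroupOf B).index = 2 := by
    have h1 := (A.subgroupOf B).card_mul_index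
    rw [Nat.card_congr (subgroupOfEquivOfLe hAB).toEquiv, hcard, mul_comm 2] at h1
    exact Nat.eq_of_mul_eq_mul_left Nat.card_pos h1
  have := normal_of_index_eq_two hidx
  rw [mem_normalizer_iff]
  intro a
  constructor
  · intro ha
    exact mem_subgroupOf.1 (this.conj_mem ⟨a, hAB ha⟩ (mem_subgroupOf.2 ha) ⟨b, hb⟩)
  · intro ha
    have h1 := mem_subgroupOf.1 (this.conj_mem ⟨b * a * b⁻¹, hAB ha⟩ (mem_subgroupOf.2 ha)
      (⟨b, hb⟩ : B)⁻¹)
    simpa [mul_assoc] using h1

theorem mul_self_mem_of_card_eq {A B : Subgroup G} (hAB : A ≤ B)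
    (hcard : Nat.card B = 2 * Nat.card A) {b : G} (hb : b ∈ B) : b * b ∈ A := by
  have hidx : (A.subgroupOf B).index = 2 := by
    have h1 := (A.subgroupOf B).card_mul_index
    rw [Nat.card_congr (subgroupOfEquivOfLe hAB).toEquiv, hcard, mul_comm 2] at h1
    exact Nat.eq_of_mul_eq_mul_left Nat.card_pos h1
  exact mem_subgroupOf.1 (Subgroup.mul_self_mem_of_index_two hidx ⟨b, hb⟩)

theorem conj_mem_centralizer {g z h : G} (hh : h ∈ centralizer ({z} : Set G)) :
    g * h * g⁻¹ ∈ centralizer ({g * z * g⁻¹} : Set G) := by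
  rw [mem_centralizer_singleton_iff] at hh ⊢
  calc g * h * g⁻¹ * (g * z * g⁻¹) = g * (h * z) * g⁻¹ := by group
    _ = g * (z * h) * g⁻¹ := by rw [hh]
    _ = _ := by group

/-- Frattini's argument with a TI subgroup containing a Sylow subgroup. -/
theorem index_dvd_of_ti {A : Subgroup G} {r : ℕ} [Fact r.Prime] (R : Sylow r G)
    (hRA : (R : Subgroup G) ≤ A)
    (hTI : ∀ g a : G, a ∈ A → a ≠ 1 → g * a * g⁻¹ ∈ A → g ∈ normalizer (A : Set G))
    (N : Subgroup G) [N.Normal] (hr : r ∣ Nat.card N) :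
    N.index ∣ Nat.card (normalizer (A : Set G)) := by
  obtain ⟨P⟩ := (inferInstance : Nonempty (Sylow r N))
  set Q := (P : Subgroup N).map N.subtype with hQ
  obtain ⟨S, hS⟩ := (P.2.map N.subtype : IsPGroup r Q).exists_le_sylow
  obtain ⟨c, hc⟩ := MulAction.exists_smul_eq G S R
  obtain ⟨⟨w, hw⟩, hwo⟩ := exists_prime_orderOf_dvd_card' (G := Q) r (by
    rw [hQ, card_map_of_injective N.subtype_injective]
    exact P.dvd_card_of_dvd_card hr)
  rw [Subgroup.orderOf_mk] at hwo
  have hconj : ∀ a ∈ Q, c * a * c⁻¹ ∈ A := fun a ha => hRA (by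
    rw [← hc, Sylow.coe_subgroup_smul]
    exact ⟨a, hS ha, rfl⟩)
  have hle : normalizer (Q : Set G) ≤
      (normalizer (A : Set G)).comap (MulAut.conj c).toMonoidHom := by
    intro g hg
    refine hTI _ (c * w * c⁻¹) (hconj w hw) (fun e => ?_) ?_
    · rw [conj_eq_one_iff.1 e, orderOf_one] at hwo
      exact (Fact.out : r.Prime).ne_one hwo.symm
    · show c * g * c⁻¹ * (c * w * c⁻¹) * (c * g * c⁻¹)⁻¹ ∈ A
      rw [show c * g * c⁻¹ * (c * w * c⁻¹) * (c * g * c⁻¹)⁻¹ = c * (g * w * g⁻¹) * c⁻¹ by group]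
      exact hconj _ ((mem_normalizer_iff.1 hg w).1 hw)
  have h1 : N.index ∣ Nat.card (normalizer (Q : Set G)) := by
    rw [Subgroup.index_eq_card]
    refine card_dvd_of_surjective ((QuotientGroup.mk' N).comp (normalizer (Q : Set G)).subtype) ?_
    intro u
    obtain ⟨g, rfl⟩ := QuotientGroup.mk'_surjective N u
    have hg : g ∈ ((normalizer (Q : Set G) ⊔ N : Subgroup G) : Set G) := by
      rw [Sylow.normalizer_sup_eq_top P]; trivial
    rw [mul_normal] at hg
    obtain ⟨a, ha, b, hb, rfl⟩ := hg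
    refine ⟨⟨a, ha⟩, ?_⟩
    show QuotientGroup.mk' N a = QuotientGroup.mk' N (a * b)
    simp only [map_mul, QuotientGroup.mk'_apply, (QuotientGroup.eq_one_iff b).2 hb, mul_one]
  refine h1.trans ((card_dvd_of_le hle).trans ?_)
  exact card_comap_dvd_of_injective _ _ (MulAut.conj c).injective

end General

namespace OddData

variable {G : Type*} [Group G] [Finite G] {p q m n : ℕ} (h : OddData G p q m n)
include h

theorem cast_qm {r : ℕ} (hrn : r ∣ n) : (q * (2 * m) : ℕ) ≡ 2 [MOD r] := by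
  rw [← ZMod.natCast_eq_natCast_iff]
  have hn0 : (n : ZMod r) = 0 := (ZMod.natCast_eq_zero_iff n r).2 hrn
  rcases h.rel with ⟨e1, e2⟩ | ⟨e1, e2⟩
  · have e1' := congrArg (Nat.cast : ℕ → ZMod r) e1
    have e2' := congrArg (Nat.cast : ℕ → ZMod r) e2
    push_cast at e1' e2' ⊢
    rw [hn0] at e2'
    linear_combination (-(q : ZMod r)) * e1' + ((q : ZMod r) - 2) * e2'
  · have e1' := congrArg (Nat.cast : ℕ → ZMod r) e1
    have e2' := congrArg (Nat.cast : ℕ → ZMod r) e2
    push_cast at e1' e2' ⊢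
    rw [hn0] at e2'
    linear_combination (-(q : ZMod r)) * e1' + ((q : ZMod r) + 2) * e2'

theorem cast_qn {r : ℕ} [Fact r.Prime] (hr2 : r ≠ 2) (hrm : r ∣ m) :
    (q * n : ℕ) ≡ 1 [MOD r] := by
  rw [← ZMod.natCast_eq_natCast_iff]
  have hm0 : (m : ZMod r) = 0 := (ZMod.natCast_eq_zero_iff m r).2 hrm
  have h2 : (2 : ZMod r) ≠ 0 := by
    intro e
    exact hr2 ((Nat.prime_dvd_prime_iff_eq Fact.out Nat.prime_two).1
      ((ZMod.natCast_eq_zero_iff 2 r).1 (by simpa using e)))
  refine mul_left_cancel₀ h2 ?_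
  rcases h.rel with ⟨e1, e2⟩ | ⟨e1, e2⟩
  · have e1' := congrArg (Nat.cast : ℕ → ZMod r) e1
    have e2' := congrArg (Nat.cast : ℕ → ZMod r) e2
    push_cast at e1' e2' ⊢
    rw [hm0] at e1'
    linear_combination ((q : ZMod r) + 2) * e1' - (q : ZMod r) * e2'
  · have e1' := congrArg (Nat.cast : ℕ → ZMod r) e1
    have e2' := congrArg (Nat.cast : ℕ → ZMod r) e2
    push_cast at e1' e2' ⊢
    rw [hm0] at e1'
    linear_combination ((q : ZMod r) - 2) * e1' - (q : ZMod r) * e2'

/-- The cyclic subgroup of order `n`. -/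
theorem exists_Y : ∃ Y : Subgroup G, IsCyclic Y ∧ Nat.card Y = n ∧
    (∀ a ∈ Y, a ≠ 1 → centralizer ({a} : Set G) = Y) ∧
    (∀ g a : G, a ∈ Y → a ≠ 1 → g * a * g⁻¹ ∈ Y → g ∈ normalizer (Y : Set G)) ∧
    Nat.card (normalizer (Y : Set G)) = 2 * n ∧
    ∀ r, r.Prime → r ∣ n → ∃ R : Sylow r G, (R : Subgroup G) ≤ Y := by
  obtain ⟨y, hy⟩ := (h.spec n).2 (Or.inr (Or.inr dvd_rfl))
  set Y := zpowers y
  have hY : Nat.card Y = n := (Nat.card_zpowers y).trans hy
  haveI : IsCyclic Y := inferInstance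
  have hcen : ∀ a ∈ Y, a ≠ 1 → centralizer ({a} : Set G) = Y := by
    intro a ha ha1
    refine (eq_of_le_of_card_ge (fun w hw => ?_) (Nat.le_of_dvd Nat.card_pos ?_)).symm
    · rw [mem_centralizer_singleton_iff]
      obtain ⟨i, rfl⟩ := mem_zpowers_iff.1 hw
      obtain ⟨j, rfl⟩ := mem_zpowers_iff.1 ha
      rw [← zpow_add, ← zpow_add, add_comm]
    · refine (h.cent_n ha1 (hY ▸ Subgroup.orderOf_dvd_natCard Y ha)).trans ?_
      rw [hY]
  have hTI : ∀ g a : G, a ∈ Y → a ≠ 1 → g * a * g⁻¹ ∈ Y → g ∈ normalizer (Y : Set G) :=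
    fun g a ha ha1 hga => BSW7.ti_normalizer hcen ha ha1 hga
  have hidx : Y.index = q * (2 * m) := by
    have h1 := Y.card_mul_index
    rw [hY, h.card] at h1
    exact Nat.eq_of_mul_eq_mul_left (by have := h.hn3; omega) (h1.trans (by ring))
  have hfull : ∀ r, r.Prime → r ∣ n → ¬ r ∣ Y.index := by
    intro r hr hrn hd
    rw [hidx] at hd
    rcases hr.dvd_mul.1 hd with hd | hd
    · exact hr.ne_one (Nat.dvd_one.1 (h.cop_qn.gcd_eq_one ▸ Nat.dvd_gcd hd hrn))
    · exact hr.ne_one (Nat.dvd_one.1 (h.cop_2mn.gcd_eq_one ▸ Nat.dvd_gcd hd hrn))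
  have hget : ∀ r, r.Prime → r ∣ n → ∃ R : Sylow r G, (R : Subgroup G) ≤ Y ∧
      Nat.card (normalizer (Y : Set G)) = 2 * n := by
    intro r hr hrn
    have hzo : orderOf (y ^ (orderOf y / r)) = r :=
      orderOf_pow_orderOf_div (orderOf_pos y).ne' (hy.symm ▸ hrn)
    set z := y ^ (orderOf y / r) with hz
    have hzY : z ∈ Y := pow_mem (mem_zpowers y) _
    have hz1 : z ≠ 1 := fun e => hr.ne_one (by rw [← hzo, e, orderOf_one])
    obtain ⟨R, hRY, -, hNR, hRz, v, hv0, hvr, hvN, hvi⟩ := h.sylow_count hzY hr hzo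
      (hfull r hr hrn) ((hcen z hzY hz1).le.trans le_normalizer)
    refine ⟨R, hRY, ?_⟩
    have hr2 : r ≠ 2 := fun e => Nat.not_even_iff_odd.2 h.hn (even_iff_two_dvd.2 (e ▸ hrn))
    have hr3 : 3 ≤ r := by have := hr.two_le; omega
    rw [hcen z hzY hz1, hidx] at hvi
    rw [hcen z hzY hz1, hY] at hvN
    have hv2 : v = 2 :=
      Nat.ModEq.eq_of_lt_of_lt (hvi.symm.trans (h.cast_qm hrn)) hvr (by omega)
    subst hv2
    refine hvN ▸ congrArg (fun K : Subgroup G => Nat.card K) (le_antisymm hNR fun g hg => ?_)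
    exact hTI g z hzY hz1 (le_zpowers_Y hzY ((mem_normalizer_iff.1 (hRz hg) z).1 (mem_zpowers z)))
  obtain ⟨r, hr, hrn⟩ := Nat.exists_prime_and_dvd (show n ≠ 1 by have := h.hn3; omega)
  exact ⟨Y, inferInstance, hY, hcen, hTI, (hget r hr hrn).choose_spec.2,
    fun r hr hrn => ⟨_, (hget r hr hrn).choose_spec.1⟩⟩
where
  le_zpowers_Y {z w : G} {Y : Subgroup G} (hz : z ∈ Y) (hw : w ∈ zpowers z) : w ∈ Y :=
    zpowers_le.2 hz hw

/-- The cyclic subgroup of order `m` and the centralizer of its involution. -/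
theorem exists_X : ∃ (t : G) (X : Subgroup G), orderOf t = 2 ∧ t ∈ X ∧ IsCyclic X ∧
    Nat.card X = m ∧ X ≤ centralizer ({t} : Set G) ∧
    Nat.card (centralizer ({t} : Set G)) = 2 * m ∧
    normalizer (X : Set G) = centralizer ({t} : Set G) ∧
    (∀ g a : G, a ∈ X → a ≠ 1 → g * a * g⁻¹ ∈ X → g ∈ normalizer (X : Set G)) ∧
    (∀ a ∈ X, a * a = 1 → a = 1 ∨ a = t) ∧
    ∀ r, r.Prime → r ≠ 2 → r ∣ m → ∃ R : Sylow r G, (R : Subgroup G) ≤ X := by
  classical
  have := Fact.mk Nat.prime_two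
  obtain ⟨x, hx⟩ := (h.spec m).2 (Or.inr (Or.inl dvd_rfl))
  set X := zpowers x
  have hX : Nat.card X = m := (Nat.card_zpowers x).trans hx
  haveI : IsCyclic X := inferInstance
  set t := x ^ (orderOf x / 2)
  have ht : orderOf t = 2 :=
    orderOf_pow_orderOf_div (orderOf_pos x).ne' (hx.symm ▸ h.hm.two_dvd)
  have htX : t ∈ X := pow_mem (mem_zpowers x) _
  have ht1 : t ≠ 1 := fun e => by rw [e, orderOf_one] at ht; omega
  have hinv : ∀ a ∈ X, a * a = 1 → a = 1 ∨ a = t := by
    intro a ha haa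
    by_contra hne
    push Not at hne
    have hao : orderOf a = 2 := orderOf_eq_prime (by rw [sq]; exact haa) hne.1
    have h1 := eq_of_card_eq (H := zpowers (⟨a, ha⟩ : X)) (K := zpowers (⟨t, htX⟩ : X))
      (by rw [Nat.card_zpowers, Nat.card_zpowers, Subgroup.orderOf_mk, Subgroup.orderOf_mk, hao, ht])
    have h2 : (⟨a, ha⟩ : X) ∈ zpowers (⟨t, htX⟩ : X) := h1 ▸ mem_zpowers _
    obtain ⟨i, hi⟩ := mem_zpowers_iff.1 h2
    have hi' : t ^ i = a := congrArg Subtype.val hi
    rw [← zpow_mod_orderOf, ht] at hi'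
    rcases Int.emod_two_eq_zero_or_one i with e | e <;> simp only [Nat.cast_ofNat, e] at hi'
    · exact hne.1 (by simpa using hi'.symm)
    · exact hne.2 (by simpa using hi'.symm)
  have hcomm : ∀ a ∈ X, ∀ b ∈ X, b * a = a * b := by
    intro a ha b hb
    obtain ⟨i, rfl⟩ := mem_zpowers_iff.1 ha
    obtain ⟨j, rfl⟩ := mem_zpowers_iff.1 hb
    rw [← zpow_add, ← zpow_add, add_comm]
  have hXC : ∀ a ∈ X, X ≤ centralizer ({a} : Set G) := fun a ha b hb =>
    mem_centralizer_singleton_iff.2 (hcomm a ha b hb)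
  have hcases : ∀ a ∈ X, a ≠ 1 → Nat.card (centralizer ({a} : Set G)) = m ∨
      Nat.card (centralizer ({a} : Set G)) = 2 * m := by
    intro a ha ha1
    obtain ⟨k, hk⟩ := hX ▸ card_dvd_of_le (hXC a ha)
    have h1 := h.cent_m ha1 (hX ▸ Subgroup.orderOf_dvd_natCard X ha)
    rw [hk, mul_comm 2 m] at h1
    rcases (Nat.dvd_prime Nat.prime_two).1
      (Nat.dvd_of_mul_dvd_mul_left (by have := h.hm2; omega) h1) with e | e
    · left; rw [hk, e, mul_one]
    · right; rw [hk, e, mul_comm]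
  set C := centralizer ({t} : Set G) with hC
  have hCcard : Nat.card C = 2 * m := by
    refine (hcases t htX ht1).resolve_left fun hCm => ?_
    have hCX : X = C := eq_of_le_of_card_ge (hXC t htX) (by rw [hX, hCm])
    obtain ⟨k, m', hm', hmk⟩ := Nat.exists_eq_two_pow_mul_odd (show m ≠ 0 by have := h.hm2; omega)
    set w := x ^ m'
    have hwo : orderOf w = 2 ^ k := by
      rw [orderOf_pow, hx, hmk, Nat.gcd_eq_right (dvd_mul_left _ _),
        Nat.mul_div_cancel _ (Nat.pos_of_ne_zero fun e => by rw [e] at hm'; simp at hm')]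
    obtain ⟨K, hK, hle⟩ := Sylow.exists_subgroup_card_pow_succ (n := k) (p := 2)
      (show 2 ^ (k + 1) ∣ Nat.card G by
        rw [h.card, hmk]; exact ⟨q * m' * n, by ring⟩)
      ((Nat.card_zpowers w).trans hwo)
    have hKN : K ≤ normalizer (zpowers w : Set G) :=
      le_normalizer_of_card_eq hle (by rw [hK, Nat.card_zpowers, hwo, pow_succ, mul_comm])
    have hk1 : 1 ≤ k := by
      by_contra hk0
      have : k = 0 := by omega
      rw [this, pow_zero, one_mul] at hmk
      exact Nat.not_even_iff_odd.2 (hmk ▸ hm') h.hm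
    have htw : t ∈ zpowers w := by
      have h2 := orderOf_pow_orderOf_div (orderOf_pos w).ne' (hwo.symm ▸ dvd_pow_self 2 (by omega : k ≠ 0))
      rcases hinv (w ^ (orderOf w / 2)) (pow_mem (pow_mem (mem_zpowers x) _) _) (by
          rw [← sq]; exact orderOf_dvd_iff_pow_eq_one.1 h2.dvd) with e | e
      · rw [e, orderOf_one] at h2; omega
      · exact e ▸ pow_mem (mem_zpowers w) _
    have hKC : K ≤ C := by
      intro g hg
      have h1 : g * t * g⁻¹ ∈ zpowers w := (mem_normalizer_iff.1 (hKN hg) t).1 htw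
      rcases hinv _ (zpowers_le.2 (pow_mem (mem_zpowers x) _) h1) (by
        rw [show g * t * g⁻¹ * (g * t * g⁻¹) = g * (t * t) * g⁻¹ by group, ← sq, ← ht,
          pow_orderOf_eq_one, mul_one, mul_inv_cancel]) with e | e
      · exact absurd (conj_eq_one_iff.1 e) ht1
      · exact mem_centralizer_singleton_iff.2 (mul_inv_eq_iff_eq_mul.1 e)
    have hd := card_dvd_of_le hKC
    rw [hK, hCm, hmk, pow_succ] at hd
    exact Nat.not_even_iff_odd.2 hm' (even_iff_two_dvd.2
      (Nat.dvd_of_mul_dvd_mul_left (by positivity) hd))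
  have hXn : normalizer (X : Set G) = C := by
    refine le_antisymm (fun g hg => ?_) (le_normalizer_of_card_eq (hXC t htX) (by rw [hCcard, hX]))
    rcases hinv _ ((mem_normalizer_iff.1 hg t).1 htX) (by
      rw [show g * t * g⁻¹ * (g * t * g⁻¹) = g * (t * t) * g⁻¹ by group, ← sq, ← ht,
        pow_orderOf_eq_one, mul_one, mul_inv_cancel]) with e | e
    · exact absurd (conj_eq_one_iff.1 e) ht1
    · exact mem_centralizer_singleton_iff.2 (mul_inv_eq_iff_eq_mul.1 e)
  have hidxX : X.index = 2 * (q * n) := by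
    have h1 := X.card_mul_index
    rw [hX, h.card] at h1
    exact Nat.eq_of_mul_eq_mul_left (by have := h.hm2; omega) (h1.trans (by ring))
  have hidxC : C.index = q * n := by
    have h1 := C.card_mul_index
    rw [hCcard, h.card] at h1
    exact Nat.eq_of_mul_eq_mul_left (by have := h.hm2; omega) (h1.trans (by ring))
  have hfull : ∀ r, r.Prime → r ≠ 2 → r ∣ m → ¬ r ∣ X.index := by
    intro r hr hr2 hrm hd
    rw [hidxX] at hd
    rcases hr.dvd_mul.1 hd with hd | hd
    · exact hr2 ((Nat.prime_dvd_prime_iff_eq hr Nat.prime_two).1 hd)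
    rcases hr.dvd_mul.1 hd with hd | hd
    · exact hr.ne_one (Nat.dvd_one.1 (h.cop_qm.gcd_eq_one ▸ Nat.dvd_gcd hd (hrm.mul_left 2)))
    · exact hr.ne_one (Nat.dvd_one.1 (h.cop_mn.gcd_eq_one ▸ Nat.dvd_gcd hrm hd))
  have hodd : ∀ r, r.Prime → r ≠ 2 → ∀ z ∈ X, orderOf z = r →
      centralizer ({z} : Set G) = X ∧ ∃ R : Sylow r G, (R : Subgroup G) ≤ X := by
    intro r hr hr2 z hzX hzo
    have := Fact.mk hr
    have hz1 : z ≠ 1 := fun e => hr.ne_one (by rw [← hzo, e, orderOf_one])
    have hrm : r ∣ m := hzo ▸ hX ▸ Subgroup.orderOf_dvd_natCard X hzX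
    have hCzN : centralizer ({z} : Set G) ≤ normalizer (X : Set G) := by
      rcases hcases z hzX hz1 with e | e
      · exact (eq_of_le_of_card_ge (hXC z hzX) (by rw [hX, e])).symm.le.trans le_normalizer
      · exact le_normalizer_of_card_eq (hXC z hzX) (by rw [e, hX])
    obtain ⟨R, hRX, hzR, hNR, hRz, v, hv0, hvr, hvN, hvi⟩ :=
      h.sylow_count hzX hr hzo (hfull r hr hr2 hrm) hCzN
    refine ⟨?_, R, hRX⟩
    rcases hcases z hzX hz1 with e | e
    · exact (eq_of_le_of_card_ge (hXC z hzX) (by rw [hX, e])).symm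
    exfalso
    have hCz : centralizer ({z} : Set G) = C :=
      eq_of_le_of_card_ge (hXn ▸ hCzN) (by rw [hCcard, e])
    rw [hCz, hidxC] at hvi
    have hv1 : v = 1 :=
      Nat.ModEq.eq_of_lt_of_lt (hvi.symm.trans (h.cast_qn hr2 hrm)) hvr hr.one_lt
    subst hv1
    rw [one_mul, hCz] at hvN
    have hNC : normalizer ((R : Subgroup G) : Set G) = C :=
      (eq_of_le_of_card_ge (hXn ▸ hNR) hvN.le).symm
    -- the centralizer of the involution centralises `R`
    have hRc : IsCyclic (R : Subgroup G) :=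
      isCyclic_of_injective (Subgroup.inclusion hRX) (Subgroup.inclusion_injective hRX)
    have hcentR : normalizer ((R : Subgroup G) : Set G) ≤
        centralizer ((R : Subgroup G) : Set G) := by
      intro g hg
      obtain ⟨⟨w, hw⟩, hwgen⟩ := hRc.exists_generator
      have hwz : ∀ a ∈ (R : Subgroup G), ∃ i : ℤ, w ^ i = a := fun a ha => by
        obtain ⟨i, hi⟩ := mem_zpowers_iff.1 (hwgen ⟨a, ha⟩)
        exact ⟨i, congrArg Subtype.val hi⟩
      obtain ⟨k, hk⟩ := hwz _ ((mem_normalizer_iff.1 hg w).1 hw)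
      have hg2 : g * g ∈ X :=
        mul_self_mem_of_card_eq (hXC t htX) (by rw [hCcard, hX]) (hNC.le hg)
      have hk2 : w ^ (k * k) = w := by
        rw [zpow_mul, hk, conj_zpow, hk,
          show g * (g * w * g⁻¹) * g⁻¹ = (g * g) * w * (g * g)⁻¹ by group,
          hcomm w (hRX hw) _ hg2, mul_inv_cancel_right]
      obtain ⟨j, hj⟩ := hwz z hzR
      have hkz : z ^ k = z := by
        have hgz : g * z * g⁻¹ = z := by
          rw [mem_centralizer_singleton_iff.1 ((hNC.trans hCz.symm) ▸ hg : g ∈ centralizer {z}),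
            mul_inv_cancel_right]
        refine Eq.trans ?_ hgz
        conv_lhs => rw [← hj]
        rw [← zpow_mul, mul_comm, zpow_mul, hk, conj_zpow, hj]
      have hrk : (r : ℤ) ∣ k - 1 := by
        rw [← hzo, orderOf_dvd_iff_zpow_eq_one, zpow_sub, zpow_one, hkz, mul_inv_cancel]
      obtain ⟨e', he'⟩ := R.2.exists_card_eq
      have hwo : (orderOf w : ℤ) ∣ (k - 1) * (k + 1) := by
        rw [orderOf_dvd_iff_zpow_eq_one, show (k - 1) * (k + 1) = k * k - 1 by ring, zpow_sub,
          hk2, zpow_one, mul_inv_cancel]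
      have hcop : IsCoprime (orderOf w : ℤ) (k + 1) := by
        obtain ⟨i, -, hi⟩ := (Nat.dvd_prime_pow hr).1
          (he' ▸ Subgroup.orderOf_dvd_natCard _ hw : orderOf w ∣ r ^ e')
        rw [hi, Nat.cast_pow]
        refine IsCoprime.pow_left ?_
        rw [(Nat.prime_iff_prime_int.1 hr).coprime_iff_not_dvd]
        intro hd
        have h2 : (r : ℤ) ∣ 2 := by
          have := dvd_sub hd hrk
          rwa [show k + 1 - (k - 1) = (2 : ℤ) by ring] at this
        exact hr2 ((Nat.prime_dvd_prime_iff_eq hr Nat.prime_two).1 (Int.natCast_dvd_natCast.1 h2))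
      have hk1 : w ^ k = w := by
        have h3 := orderOf_dvd_iff_zpow_eq_one.1 (hcop.dvd_of_dvd_mul_right hwo)
        rwa [zpow_sub, zpow_one, mul_inv_eq_one] at h3
      rw [mem_centralizer_iff]
      intro a ha
      obtain ⟨i, rfl⟩ := hwz a ha
      have hgw : Commute g w := mul_inv_eq_iff_eq_mul.1 (hk.symm.trans hk1)
      exact (hgw.zpow_right i).eq.symm
    set K := (MonoidHom.transferSylow R hcentR).ker
    have hKidx : K.index = Nat.card R :=
      (MonoidHom.ker_transferSylow_isComplement' R hcentR).symm.index_eq_card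
    obtain ⟨Y, -, hY, -, hTI, hNY, hSyl⟩ := h.exists_Y
    obtain ⟨r', hr', hr'n⟩ := Nat.exists_prime_and_dvd (show n ≠ 1 by have := h.hn3; omega)
    obtain ⟨R', hR'⟩ := hSyl r' hr' hr'n
    have := Fact.mk hr'
    have hr'K : r' ∣ Nat.card K := by
      have h1 : r' ∣ Nat.card K * K.index := by
        rw [K.card_mul_index, h.card]; exact (hr'n.mul_left (q * m)).mul_left 2
      refine (hr'.dvd_mul.1 h1).resolve_right fun h2 => ?_
      obtain ⟨e', he'⟩ := R.2.exists_card_eq
      rw [hKidx, he'] at h2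
      rw [(Nat.prime_dvd_prime_iff_eq hr' hr).1 (hr'.dvd_of_dvd_pow h2)] at hr'n
      exact hr.ne_one (Nat.dvd_one.1 (h.cop_mn.gcd_eq_one ▸ Nat.dvd_gcd hrm hr'n))
    have h1 := index_dvd_of_ti R' hR' hTI K hr'K
    rw [hKidx, hNY] at h1
    have hd := (R.dvd_card_of_dvd_card (hzo ▸ orderOf_dvd_natCard z)).trans h1
    rcases hr.dvd_mul.1 hd with hd | hd
    · exact hr2 ((Nat.prime_dvd_prime_iff_eq hr Nat.prime_two).1 hd)
    · exact hr.ne_one (Nat.dvd_one.1 (h.cop_mn.gcd_eq_one ▸ Nat.dvd_gcd hrm hd))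
  have hTI : ∀ g a : G, a ∈ X → a ≠ 1 → g * a * g⁻¹ ∈ X → g ∈ normalizer (X : Set G) := by
    intro g a ha ha1 hga
    obtain ⟨r, hr, hra⟩ := Nat.exists_prime_and_dvd (fun e => ha1 (orderOf_eq_one_iff.1 e))
    have hzo : orderOf (a ^ (orderOf a / r)) = r :=
      orderOf_pow_orderOf_div (orderOf_pos a).ne' hra
    set z := a ^ (orderOf a / r)
    have hz : z ∈ X := pow_mem ha _
    have hgz : g * z * g⁻¹ ∈ X := by rw [← conj_pow]; exact pow_mem hga _
    have hgzo : orderOf (g * z * g⁻¹) = r := by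
      rw [← MulAut.conj_apply, MulEquiv.orderOf_eq, hzo]
    by_cases hr2 : r = 2
    · subst hr2
      rw [hXn, mem_centralizer_singleton_iff]
      have h1 : ∀ b ∈ X, orderOf b = 2 → b = t := fun b hb hbo =>
        (hinv b hb (by rw [← sq, ← hbo, pow_orderOf_eq_one])).resolve_left
          fun e => by rw [e, orderOf_one] at hbo; omega
      rw [h1 z hz hzo] at hgzo hgz
      exact mul_inv_eq_iff_eq_mul.1 (h1 _ hgz hgzo)
    · rw [mem_normalizer_iff_map_conj_eq]
      refine eq_of_le_of_card_ge ?_ (card_map_of_injective (MulAut.conj g).injective).ge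
      rintro _ ⟨b, hb, rfl⟩
      show g * b * g⁻¹ ∈ X
      rw [← (hodd r hr hr2 _ hgz hgzo).1]
      exact conj_mem_centralizer ((hodd r hr hr2 z hz hzo).1.symm ▸ hb)
  refine ⟨t, X, ht, htX, inferInstance, hX, hXC t htX, hCcard, hXn, hTI, hinv,
    fun r hr hr2 hrm => ?_⟩
  exact (hodd r hr hr2 (x ^ (orderOf x / r)) (pow_mem (mem_zpowers x) _)
    (orderOf_pow_orderOf_div (orderOf_pos x).ne' (hx.symm ▸ hrm))).2

/-- A group with the data of `PSL(2, q)`, `q` odd, is isomorphic to it. -/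
theorem exists_psl : ∃ (K : Type) (_ : Field K) (_ : Fintype K),
    Fintype.card K = q ∧ Nonempty (G ≃* Matrix.ProjectiveSpecialLinearGroup (Fin 2) K) := by
  classical
  haveI := Fintype.ofFinite G
  have := Fact.mk Nat.prime_two
  obtain ⟨Y, hYc, hY, hYcen, hYti, hNY, hYsyl⟩ := h.exists_Y
  obtain ⟨t, X, ht, htX, hXc, hX, hXC, hC, hXn, hXti, hinv, hXsyl⟩ := h.exists_X
  set C := centralizer ({t} : Set G) with hCdef
  have hm2 := h.hm2
  have hn3 := h.hn3
  have hq5 := h.h5
  set P := Finset.univ.filter fun g : G => g ≠ 1 ∧ orderOf g ∣ p with hPdef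
  set UX := Finset.univ.filter fun g : G => g ≠ 1 ∧ ∃ a : G, a * g * a⁻¹ ∈ X with hUXdef
  set UY := Finset.univ.filter fun g : G => g ≠ 1 ∧ ∃ a : G, a * g * a⁻¹ ∈ Y with hUYdef
  have hUXord : ∀ g ∈ UX, orderOf g ∣ m := by
    intro g hg
    obtain ⟨-, -, a, ha⟩ := Finset.mem_filter.1 hg
    rw [← MulEquiv.orderOf_eq (MulAut.conj a) g]
    exact hX ▸ Subgroup.orderOf_dvd_natCard X ha
  have hUYord : ∀ g ∈ UY, orderOf g ∣ n := by
    intro g hg
    obtain ⟨-, -, a, ha⟩ := Finset.mem_filter.1 hg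
    rw [← MulEquiv.orderOf_eq (MulAut.conj a) g]
    exact hY ▸ Subgroup.orderOf_dvd_natCard Y ha
  have hcop : ∀ {g : G} {a b : ℕ}, Nat.Coprime a b → g ≠ 1 → orderOf g ∣ a → orderOf g ∣ b →
      False := fun hab hg1 h1 h2 =>
    hg1 (orderOf_eq_one_iff.1 (Nat.eq_one_of_dvd_coprimes hab h1 h2))
  have hP : P.card + 1 = q * q := by
    rw [← h.card_p, Nat.card_eq_fintype_card, Fintype.card_subtype]
  have hUX : UX.card = (m - 1) * (q * n) := by
    have h1 := BSW7.card_conjugates hXti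
    rw [Nat.card_eq_fintype_card, Fintype.card_subtype, hXn, hC, hX, h.card] at h1
    refine Nat.eq_of_mul_eq_mul_right (show 0 < 2 * m by omega) (h1.trans ?_)
    ring
  have hUY : UY.card = (n - 1) * (q * m) := by
    have h1 := BSW7.card_conjugates hYti
    rw [Nat.card_eq_fintype_card, Fintype.card_subtype, hNY, hY, h.card] at h1
    refine Nat.eq_of_mul_eq_mul_right (show 0 < 2 * n by omega) (h1.trans ?_)
    ring
  have htot : P.card + UX.card + UY.card + 1 = Nat.card G := by
    rw [hUX, hUY, h.card]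
    have h4 := h.four_mul
    have hqq := h.q_eq
    obtain ⟨m', rfl⟩ : ∃ m', m = m' + 1 := ⟨m - 1, by omega⟩
    obtain ⟨n', rfl⟩ : ∃ n', n = n' + 1 := ⟨n - 1, by omega⟩
    simp only [Nat.add_sub_cancel]
    nlinarith [hP, h4, hqq]
  have hd1 : Disjoint P UX := Finset.disjoint_left.2 fun g hg hg' => by
    obtain ⟨-, h1, h2⟩ := Finset.mem_filter.1 hg
    exact hcop h.cop_pm h1 h2 (hUXord g hg')
  have hd2 : Disjoint (P ∪ UX) UY := Finset.disjoint_left.2 fun g hg hg' => by
    rcases Finset.mem_union.1 hg with hg | hg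
    · obtain ⟨-, h1, h2⟩ := Finset.mem_filter.1 hg
      exact hcop h.cop_pn h1 h2 (hUYord g hg')
    · exact hcop h.cop_mn (Finset.mem_filter.1 hg).2.1 (hUXord g hg) (hUYord g hg')
  have hall : ∀ g : G, g ≠ 1 → g ∈ P ∨ g ∈ UX ∨ g ∈ UY := by
    intro g hg1
    have hd3 : Disjoint {1} (P ∪ UX ∪ UY) := by
      simp [hPdef, hUXdef, hUYdef]
    have huniv : ({1} : Finset G) ∪ (P ∪ UX ∪ UY) = Finset.univ := by
      apply Finset.eq_univ_of_card
      rw [Finset.card_union_of_disjoint hd3, Finset.card_union_of_disjoint hd2,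
        Finset.card_union_of_disjoint hd1, Finset.card_singleton, ← Nat.card_eq_fintype_card]
      omega
    have := huniv ▸ Finset.mem_univ g
    simp only [Finset.mem_union, Finset.mem_singleton] at this
    tauto
  have hMX : ∀ g : G, g ≠ 1 → orderOf g ∣ m → ∃ a : G, a * g * a⁻¹ ∈ X := by
    intro g hg1 hgm
    rcases hall g hg1 with e | e | e
    · exact (hcop h.cop_pm hg1 (Finset.mem_filter.1 e).2.2 hgm).elim
    · exact (Finset.mem_filter.1 e).2.2
    · exact (hcop h.cop_mn hg1 hgm (hUYord g e)).elim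
  have hconjT : ∀ u : G, orderOf u = 2 → IsConj u t := by
    intro u hu
    obtain ⟨a, ha⟩ := hMX u (fun e => by rw [e, orderOf_one] at hu; omega) (hu ▸ h.hm.two_dvd)
    rcases hinv _ ha (by
      rw [show a * u * a⁻¹ * (a * u * a⁻¹) = a * (u * u) * a⁻¹ by group, ← sq, ← hu,
        pow_orderOf_eq_one, mul_one, mul_inv_cancel]) with e | e
    · rw [conj_eq_one_iff.1 e, orderOf_one] at hu; omega
    · exact isConj_iff.2 ⟨a, e⟩
  have houter : ∀ u ∈ C, u ∉ X → u * u = 1 := by
    intro u hu huX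
    by_contra huu
    have hu1 : u ≠ 1 := fun e => huX (e ▸ one_mem X)
    have hum : orderOf u ∣ m := by
      have h1 : orderOf u ∣ 2 * m := hC ▸ Subgroup.orderOf_dvd_natCard C hu
      rcases (h.spec _).1 ⟨u, rfl⟩ with h2 | h2 | h2
      · exact (hcop (h.cop_qm.coprime_dvd_left h.p_dvd_q) hu1 h2 h1).elim
      · exact h2
      · exact (hcop h.cop_2mn hu1 h1 h2).elim
    obtain ⟨a, ha⟩ := hMX u hu1 hum
    have hw : u * u ∈ X := mul_self_mem_of_card_eq hXC (by rw [hC, hX]) hu
    have haN := hXti a _ hw huu (by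
      rw [show a * (u * u) * a⁻¹ = (a * u * a⁻¹) * (a * u * a⁻¹) by group]
      exact mul_mem ha ha)
    exact huX ((mem_normalizer_iff.1 haN u).2 ha)
  obtain ⟨s, hsC, hsX⟩ : ∃ s ∈ C, s ∉ X := by
    by_contra hne
    push Not at hne
    have := card_dvd_of_le (show C ≤ X from hne)
    rw [hC, hX] at this
    have := Nat.le_of_dvd (by omega) this
    omega
  have hs2 : orderOf s = 2 :=
    orderOf_eq_prime (by rw [sq]; exact houter s hsC hsX) (fun e => hsX (e ▸ one_mem X))
  have hsinv : ∀ a ∈ X, s * a * s⁻¹ = a⁻¹ := by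
    intro a ha
    have h1 := houter (s * a) (mul_mem hsC (hXC ha))
      fun e => hsX (by simpa using mul_mem e (inv_mem ha))
    have hss : s⁻¹ = s := inv_eq_of_mul_eq_one_right (houter s hsC hsX)
    rw [hss, eq_inv_iff_mul_eq_one]
    simpa only [mul_assoc] using h1
  have hXcomm : ∀ a ∈ X, ∀ b ∈ X, a * b = b * a := fun a ha b hb =>
    congrArg Subtype.val (hXc.commGroup.mul_comm ⟨a, ha⟩ ⟨b, hb⟩)
  have hgen : X ⊔ zpowers s = C := by
    refine eq_of_le_of_card_ge (sup_le hXC (zpowers_le.2 hsC)) ?_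
    obtain ⟨k, hk⟩ := card_dvd_of_le (le_sup_left (a := X) (b := zpowers s))
    rw [hX] at hk
    rw [hC, hk, mul_comm m]
    refine Nat.mul_le_mul_right m ?_
    by_contra hk2
    have hk1 : k = 1 := by
      have : 0 < m * k := hk ▸ Nat.card_pos
      have := Nat.pos_of_mul_pos_left this
      omega
    rw [hk1, mul_one] at hk
    exact hsX ((eq_of_le_of_card_ge (le_sup_left (a := X) (b := zpowers s)) (by rw [hk, hX])).symm ▸
      mem_sup_right (mem_zpowers s))
  let S : BSW7.Setup G :=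
    { t := t
      K := X
      s := s
      ht := ht
      comm := hXcomm
      le := hXC
      tK := htX
      hs := hs2
      sH := hsC
      sK := hsX
      gen := hgen
      inter := by
        refine le_antisymm (fun a ha => ?_) (zpowers_le.2 ⟨htX, ?_⟩)
        · obtain ⟨haX, has⟩ := mem_inf.1 ha
          have h1 := hsinv a haX
          rw [← mem_centralizer_singleton_iff.1 has, mul_inv_cancel_right, eq_inv_iff_mul_eq_one] at h1
          rcases hinv a haX h1 with rfl | rfl
          · exact one_mem _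
          · exact mem_zpowers _
        · exact mem_centralizer_singleton_iff.2 (mem_centralizer_singleton_iff.1 hsC).symm
      inv := hsinv
      ti := fun g hg => by
        rw [Subgroup.eq_bot_iff_forall]
        intro a ha
        obtain ⟨ha1, b, hb, hbe⟩ := mem_inf.1 ha
        have hbe' : g * b * g⁻¹ = a := hbe
        by_contra hne
        refine hg (hXn.le (hXti g b hb (fun e => hne ?_) (hbe'.symm ▸ ha1)))
        rw [← hbe', e, mul_one, mul_inv_cancel]
      conj := fun a b ha hb => (hconjT a ha).trans (hconjT b hb).symm }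
  -- simplicity
  have hbig : ∀ N : Subgroup G, [N.Normal] → ∀ W : Finset G, (∀ g ∈ W, g ∈ N) →
      Nat.card G < 2 * (W.card + 1) → (1 : G) ∉ W → N = ⊤ := by
    intro N _ W hW hlt h1W
    have h1 : W.card + 1 ≤ Nat.card N := by
      rw [← Finset.card_insert_of_notMem h1W, Nat.card_eq_fintype_card, Fintype.card_subtype]
      refine Finset.card_le_card fun g hg => ?_
      simp only [Finset.mem_filter, Finset.mem_univ, true_and]
      rcases Finset.mem_insert.1 hg with rfl | hg
      · exact one_mem N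
      · exact hW g hg
    rw [← Subgroup.index_eq_one]
    have h2 := N.card_mul_index
    have h3 : 0 < N.index := Nat.pos_of_ne_zero index_ne_zero_of_finite
    by_contra hne
    have : 2 * Nat.card N ≤ Nat.card N * N.index := by
      rw [mul_comm 2]; exact Nat.mul_le_mul_left _ (by omega)
    omega
  have htwo : ∀ N : Subgroup G, [N.Normal] → 2 ∣ Nat.card N → N = ⊤ := by
    intro N hNn h2
    obtain ⟨u, hu⟩ := exists_prime_orderOf_dvd_card' (G := N) 2 h2
    rw [← Subgroup.orderOf_coe] at hu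
    have hinvN : ∀ v : G, orderOf v = 2 → v ∈ N := by
      intro v hv
      obtain ⟨a, ha⟩ := isConj_iff.1 ((hconjT _ hu).trans (hconjT v hv).symm)
      exact ha ▸ hNn.conj_mem _ u.2 a
    have hXN : ∀ a ∈ X, a ∈ N := by
      intro a ha
      have hsaX : s * a ∉ X := fun e => hsX (by simpa using mul_mem e (inv_mem ha))
      have hsa : s * a ∈ N := hinvN _ (orderOf_eq_prime
        (by rw [sq]; exact houter _ (mul_mem hsC (hXC ha)) hsaX) (fun e => hsaX (e ▸ one_mem X)))
      simpa using mul_mem (inv_mem (hinvN s hs2)) hsa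
    obtain ⟨v, hv⟩ := exists_prime_orderOf_dvd_card' (G := normalizer (Y : Set G)) 2
      (by rw [hNY]; exact dvd_mul_right 2 n)
    rw [← Subgroup.orderOf_coe] at hv
    have hvv : (v : G) * v = 1 := by rw [← sq, ← hv, pow_orderOf_eq_one]
    have hv1 : (v : G) ≠ 1 := fun e => by rw [e, orderOf_one] at hv; omega
    have hYN : ∀ a ∈ Y, a ∈ N := by
      intro a ha
      rcases eq_or_ne a 1 with rfl | ha1
      · exact one_mem N
      have hva : (v : G) * a * (v : G)⁻¹ = a⁻¹ := by
        refine BSW7.inverts_of_fpf hvv (fun b hb => (mem_normalizer_iff.1 v.2 b).1 hb) ?_ ha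
        intro b hb hfix
        by_contra hb1
        have hvY : (v : G) ∈ Y := (hYcen b hb hb1).le
          (mem_centralizer_singleton_iff.2 (mul_inv_eq_iff_eq_mul.1 hfix))
        exact Nat.not_even_iff_odd.2 h.hn (even_iff_two_dvd.2
          (hY ▸ hv ▸ Subgroup.orderOf_dvd_natCard Y hvY))
      have hvi : (v : G)⁻¹ = v := inv_eq_of_mul_eq_one_right hvv
      have hva1 : (v : G) * a ≠ 1 := fun e => by
        have hva' : a = (v : G) := by rw [← hvi]; exact eq_inv_of_mul_eq_one_right e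
        exact Nat.not_even_iff_odd.2 h.hn (even_iff_two_dvd.2
          (hY ▸ hv ▸ hva' ▸ Subgroup.orderOf_dvd_natCard Y ha))
      have h1 : (v : G) * a * ((v : G) * a) = 1 := by
        rw [hvi] at hva
        rw [← mul_assoc, hva, inv_mul_cancel]
      have := mul_mem (inv_mem (hinvN _ hv)) (hinvN _ (orderOf_eq_prime (by rw [sq]; exact h1) hva1))
      rwa [inv_mul_cancel_left] at this
    have hconjN : ∀ (A : Subgroup G), (∀ a ∈ A, a ∈ N) → ∀ g : G,
        (∃ a : G, a * g * a⁻¹ ∈ A) → g ∈ N := by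
      rintro A hA g ⟨a, ha⟩
      have := hNn.conj_mem _ (hA _ ha) a⁻¹
      simpa [mul_assoc] using this
    refine hbig N (UX ∪ UY) ?_ ?_ (by simp [hUXdef, hUYdef])
    · intro g hg
      rcases Finset.mem_union.1 hg with hg | hg
      · exact hconjN X hXN g (Finset.mem_filter.1 hg).2.2
      · exact hconjN Y hYN g (Finset.mem_filter.1 hg).2.2
    · rw [Finset.card_union_of_disjoint (Finset.disjoint_of_subset_left
        Finset.subset_union_right hd2)]
      have h4 := h.four_mul
      have : 2 * (q * q) ≤ q * (2 * (m * n)) := by nlinarith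
      have hG : Nat.card G = q * (2 * (m * n)) := by rw [h.card]; ring
      omega
  have hsimple : IsSimpleGroup G := by
    refine @IsSimpleGroup.mk G _ ⟨⟨t, 1, fun e => by rw [e, orderOf_one] at ht; omega⟩⟩ ?_
    intro N hNn
    rw [or_iff_not_imp_left]
    intro hNb
    have hN1 : Nat.card N ≠ 1 := fun e => hNb (Subgroup.card_eq_one.1 e)
    by_cases h2 : 2 ∣ Nat.card N
    · exact htwo N h2
    have hodd2 : Nat.Coprime 2 (Nat.card N) := (Nat.prime_two.coprime_iff_not_dvd).2 h2
    have hidx2 : ∀ k, N.index ∣ 2 * k → q * m * n ∣ Nat.card N * k := by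
      intro k hk
      have h1 : 2 * (q * m * n) ∣ Nat.card N * (2 * k) := by
        rw [← h.card, ← N.card_mul_index]; exact mul_dvd_mul_left _ hk
      rw [mul_left_comm (Nat.card N) 2 k] at h1
      exact Nat.dvd_of_mul_dvd_mul_left two_pos h1
    obtain ⟨r, hr, hrN, hrq⟩ | hall_p :
        (∃ r, r.Prime ∧ r ∣ Nat.card N ∧ ¬ r ∣ q) ∨ ∀ r, r.Prime → r ∣ Nat.card N → r ∣ q := by
      by_cases hh : ∃ r, r.Prime ∧ r ∣ Nat.card N ∧ ¬ r ∣ q
      · exact Or.inl hh
      · right; push Not at hh; exact hh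
    · have := Fact.mk hr
      have hr2 : r ≠ 2 := fun e => h2 (e ▸ hrN)
      rcases h.prime_class hr (hrN.trans N.card_subgroup_dvd_card) with hc | hc | hc
      · exact absurd (hc.trans h.p_dvd_q) hrq
      · obtain ⟨R, hR⟩ := hXsyl r hr hr2 hc
        have h1 := hidx2 m (hC ▸ hXn ▸ index_dvd_of_ti R hR hXti N hrN)
        rw [show q * m * n = q * n * m by ring] at h1
        have hqn := Nat.dvd_of_mul_dvd_mul_right (by omega) h1
        have hmem : ∀ g : G, orderOf g ∣ q * n → g ∈ N := by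
          intro g hg
          have hi : N.index ∣ 2 * m := hC ▸ hXn ▸ index_dvd_of_ti R hR hXti N hrN
          rw [← QuotientGroup.eq_one_iff, ← orderOf_eq_one_iff]
          refine Nat.eq_one_of_dvd_coprimes (show Nat.Coprime (q * n) (2 * m) from
            Nat.Coprime.mul_left h.cop_qm h.cop_2mn.symm)
            ((orderOf_map_dvd (QuotientGroup.mk' N) g).trans hg) ?_
          exact (_root_.orderOf_dvd_natCard _).trans (N.index_eq_card ▸ hi)
        refine hbig N (P ∪ UY) ?_ ?_ (by simp [hPdef, hUYdef])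
        · intro g hg
          rcases Finset.mem_union.1 hg with hg | hg
          · exact hmem g (((Finset.mem_filter.1 hg).2.2).trans (h.p_dvd_q.mul_right n))
          · exact hmem g ((hUYord g hg).mul_left q)
        · rw [Finset.card_union_of_disjoint
            (Finset.disjoint_of_subset_left Finset.subset_union_left hd2)]
          have h1 : UX.card * 2 < Nat.card G := by
            rw [hUX, h.card]
            obtain ⟨m', rfl⟩ : ∃ m', m = m' + 1 := ⟨m - 1, by omega⟩
            simp only [Nat.add_sub_cancel]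
            nlinarith [Nat.mul_pos (show 0 < q by omega) (show 0 < n by omega)]
          omega
      · obtain ⟨R, hR⟩ := hYsyl r hr hc
        have h1 := hidx2 n (hNY ▸ index_dvd_of_ti R hR hYti N hrN)
        exact absurd ((h.hm.two_dvd.mul_left q).trans
          (Nat.dvd_of_mul_dvd_mul_right (by omega) h1)) h2
    · exfalso
      have hfpf : ∀ u : G, orderOf u = 2 → ∀ a ∈ N, u * a * u⁻¹ = a⁻¹ := by
        intro u hu a ha
        refine BSW7.inverts_of_fpf (by rw [← sq, ← hu, pow_orderOf_eq_one])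
          (fun b hb => hNn.conj_mem b hb u) ?_ ha
        intro b hb hfix
        by_contra hb1
        obtain ⟨r, hr, hrb⟩ := Nat.exists_prime_and_dvd (fun e => hb1 (orderOf_eq_one_iff.1 e))
        have hrq := hall_p r hr (hrb.trans (Subgroup.orderOf_dvd_natCard N hb))
        have hbC : b ∈ centralizer ({u} : Set G) :=
          mem_centralizer_singleton_iff.2 (mul_inv_eq_iff_eq_mul.1 hfix).symm
        have hr2m : r ∣ 2 * m := (hrb.trans (Subgroup.orderOf_dvd_natCard _ hbC)).trans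
          (h.cent_m (fun e => by rw [e, orderOf_one] at hu; omega) (hu ▸ h.hm.two_dvd))
        exact hr.ne_one (Nat.dvd_one.1 (h.cop_qm.gcd_eq_one ▸ Nat.dvd_gcd hrq hr2m))
      obtain ⟨a, ha, ha1⟩ : ∃ a ∈ N, a ≠ 1 := by
        by_contra hne
        push Not at hne
        exact hNb ((Subgroup.eq_bot_iff_forall N).2 hne)
      have hts : t * s ∉ X := fun e => hsX (by simpa using mul_mem (inv_mem htX) e)
      have hts2 : orderOf (t * s) = 2 := orderOf_eq_prime
        (by rw [sq]; exact houter _ (mul_mem (hXC htX) hsC) hts) (fun e => hts (e ▸ one_mem X))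
      have e1 := hfpf _ hts2 a ha
      rw [show t * s * a * (t * s)⁻¹ = t * (s * a * s⁻¹) * t⁻¹ by group, hfpf s hs2 a ha,
        hfpf t ht _ (inv_mem ha), inv_inv, eq_inv_iff_mul_eq_one] at e1
      exact ha1 (orderOf_eq_one_iff.1 (Nat.eq_one_of_dvd_coprimes hodd2
        (orderOf_dvd_of_pow_eq_one (by rw [sq]; exact e1)) (Subgroup.orderOf_dvd_natCard N ha)))
  have hna : ¬ IsMulCommutative G := fun hc => by
    have h1 : C = ⊤ := eq_top_iff.2 fun g _ =>
      mem_centralizer_singleton_iff.2 (hc.is_comm.comm g t)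
    have h2 := hC
    rw [h1, card_top, h.card, mul_assoc] at h2
    have := Nat.eq_of_mul_eq_mul_left two_pos h2
    nlinarith [Nat.mul_le_mul hq5 (Nat.mul_le_mul (le_refl m) hn3)]
  obtain ⟨Q, D, W1, W2, W3, W4, W5, W6, W7⟩ := S.concl
  obtain ⟨K, iF, iT, hK, he⟩ := BSW7.psl_of_frame hna
    (⟨W1, W2, W3, W4, W5, W6, W7⟩ : BSW7.Frame G Q D)
  refine ⟨K, iF, iT, ?_, he⟩
  rw [hK]
  rw [h.card] at W1
  have h4 := h.four_mul
  obtain ⟨c, hc⟩ : ∃ c, Nat.card Q = c + 1 := ⟨Nat.card Q - 1, by have := Nat.card_pos (α := Q); omega⟩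
  rw [hc, Nat.add_sub_cancel] at W1
  rw [hc]
  rcases lt_trichotomy (c + 1) q with hlt | heq | hgt
  · exfalso
    have : (c + 1) * (c + 1 + 1) * c < q * (4 * (m * n)) := by
      have h5 : (c + 1) * ((c + 1 + 1) * c) ≤ q * ((c + 1 + 1) * c) :=
        Nat.mul_le_mul_right _ hlt.le
      have h7 := Nat.mul_le_mul (show c + 1 + 1 ≤ q by omega) (show c + 2 ≤ q by omega)
      have h6 : (c + 1 + 1) * c < 4 * (m * n) := by nlinarith
      have h8 : q * ((c + 1 + 1) * c) < q * (4 * (m * n)) :=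
        Nat.mul_lt_mul_of_pos_left h6 (by omega)
      rw [mul_assoc]
      omega
    nlinarith
  · exact heq
  · exfalso
    have : q * (4 * (m * n)) < (c + 1) * (c + 1 + 1) * c := by
      have h6 : 4 * (m * n) < (c + 1 + 1) * c := by nlinarith
      nlinarith
    nlinarith

end OddData

end Cfsg.Agent.PSLOrders69
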