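import Cfsg.Agent.PSLOrders69.Even
import Cfsg.Agent.PSLOrders69.OddMain
import Cfsg.Agent.Lib.LinearGroup.Card

/-!
Recognition of `PSL(2, q)` by its order and its element orders.
-/

namespace Cfsg.Agent.PSLOrders69

variable {G : Type*} [Group G] [Finite G] {F : Type*} [Field F] [Fintype F]

theorem charP_two_of_even {K : Type*} [Field K] [Fintype K] (h : Even (Fintype.card K)) :
    CharP K 2 := by
  obtain ⟨n, hp, hn⟩ := FiniteField.card K (ringChar K)
  have h2 : 2 ∣ ringChar K ^ (n : ℕ) := hn ▸ h.two_dvd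
  have := (Nat.prime_dvd_prime_iff_eq Nat.prime_two hp).1 (Nat.prime_two.dvd_of_dvd_pow h2)
  exact this ▸ ringChar.charP K

theorem gcd_of_two {K : Type*} [Field K] [Fintype K] [CharP K 2] (hK : 4 ≤ Fintype.card K) :
    Even (Fintype.card K) ∧ Nat.gcd 2 (Fintype.card K - 1) = 1 := by
  obtain ⟨n, -, hn⟩ := FiniteField.card K 2
  have hev : Even (Fintype.card K) := by rw [hn]; simp [parity_simps]
  refine ⟨hev, Nat.Prime.coprime_iff_not_dvd Nat.prime_two |>.2 ?_⟩
  rcases hev with ⟨k, hk⟩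
  omega

/-- The element orders of `PSL(2, q)`, `q` even, characterise it. -/
theorem equiv_of_spectrum_even [CharP F 2] (h4 : 4 ≤ Fintype.card F)
    (h : Set.range (orderOf : G → ℕ) =
      Set.range (orderOf : Matrix.ProjectiveSpecialLinearGroup (Fin 2) F → ℕ)) :
    Nonempty (G ≃* Matrix.ProjectiveSpecialLinearGroup (Fin 2) F) := by
  have := Fact.mk Nat.prime_two
  obtain ⟨hev, hg⟩ := gcd_of_two (K := F) h4
  have hspec : ∀ k : ℕ, (∃ g : G, orderOf g = k) ↔
      k ∣ 2 ∨ k ∣ (Fintype.card F - 1) ∨ k ∣ (Fintype.card F + 1) := fun k => by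
    rw [← Set.mem_range, h, SL2Tor.range_orderOf_psl 2, Set.mem_setOf_eq, hg, Nat.div_one,
      Nat.div_one]
  rcases hev with ⟨j, hj⟩
  obtain ⟨K, iF, iT, hK, hK4, ⟨e⟩⟩ := exists_psl_even (u := Fintype.card F - 1)
    (v := Fintype.card F + 1) ⟨j - 1, by omega⟩ ⟨j, by omega⟩ (by omega) (by omega)
    (by
      refine Nat.coprime_of_dvd' fun k hk h1 h2 => ?_
      have h3 : k ∣ 2 := by
        have := Nat.dvd_sub h2 h1
        rwa [show Fintype.card F + 1 - (Fintype.card F - 1) = 2 by omega] at this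
      rw [(Nat.prime_dvd_prime_iff_eq hk Nat.prime_two).1 h3] at h2
      omega) hspec
  have := charP_two_of_even hK
  obtain ⟨-, hgK⟩ := gcd_of_two (K := K) hK4
  have hspecK : ∀ k : ℕ, (∃ g : G, orderOf g = k) ↔
      k ∣ 2 ∨ k ∣ (Fintype.card K - 1) ∨ k ∣ (Fintype.card K + 1) := fun k => by
    have h1 : (∃ g : G, orderOf g = k) ↔
        k ∈ Set.range (orderOf : Matrix.ProjectiveSpecialLinearGroup (Fin 2) K → ℕ) :=
      ⟨fun ⟨g, hg⟩ => ⟨e g, by rw [MulEquiv.orderOf_eq, hg]⟩,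
        fun ⟨g, hg⟩ => ⟨e.symm g, by rw [MulEquiv.orderOf_eq, hg]⟩⟩
    rw [h1, SL2Tor.range_orderOf_psl 2, Set.mem_setOf_eq, hgK, Nat.div_one, Nat.div_one]
  have hle : ∀ a b : ℕ, 4 ≤ b → (a + 1 ∣ 2 ∨ a + 1 ∣ b - 1 ∨ a + 1 ∣ b + 1) → a ≤ b := by
    intro a b hb hab
    rcases hab with h1 | h1 | h1 <;> have := Nat.le_of_dvd (by omega) h1 <;> omega
  have hcard : Fintype.card F = Fintype.card K :=
    le_antisymm (hle _ _ hK4 ((hspecK _).1 ((hspec _).2 (Or.inr (Or.inr dvd_rfl)))))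
      (hle _ _ h4 ((hspec _).1 ((hspecK _).2 (Or.inr (Or.inr dvd_rfl)))))
  exact ⟨e.trans (LinearGroup.pslCongr (FiniteField.ringEquivOfCardEq hcard.symm))⟩

/-- The order and the element orders of `PSL(2, q)` characterise it. -/
theorem equiv_of_card_spectrum (h4 : 4 ≤ Fintype.card F)
    (h : Set.range (orderOf : G → ℕ) =
      Set.range (orderOf : Matrix.ProjectiveSpecialLinearGroup (Fin 2) F → ℕ))
    (hcard : Nat.card G = Nat.card (Matrix.ProjectiveSpecialLinearGroup (Fin 2) F)) :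
    Nonempty (G ≃* Matrix.ProjectiveSpecialLinearGroup (Fin 2) F) := by
  obtain ⟨f, hp, hf⟩ := FiniteField.card F (ringChar F)
  have := ringChar.charP F
  set p := ringChar F with hpdef
  have := Fact.mk hp
  by_cases hp2 : p = 2
  · have : CharP F 2 := hp2 ▸ ringChar.charP F
    exact equiv_of_spectrum_even h4 h
  set q := Fintype.card F with hqdef
  have hodd : Odd q := hf ▸ (hp.odd_of_ne_two hp2).pow
  obtain ⟨j, hj⟩ := hodd
  have hg : Nat.gcd 2 (q - 1) = 2 := Nat.gcd_eq_left ⟨j, by omega⟩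
  have hspec : ∀ k : ℕ, (∃ g : G, orderOf g = k) ↔ k ∣ p ∨ k ∣ j ∨ k ∣ j + 1 := fun k => by
    rw [← Set.mem_range, h, SL2Tor.range_orderOf_psl p, Set.mem_setOf_eq, ← hqdef, hg,
      show (q - 1) / 2 = j by omega, show (q + 1) / 2 = j + 1 by omega]
  have hG : Nat.card G = q * j * (j + 1) * 2 := by
    have h1 := LinearGroup.gcd_mul_card_PSL_two (F := F)
    rw [Nat.card_eq_fintype_card (α := F), ← hqdef, hg, ← hcard] at h1
    have h2 : q ^ 2 - 1 = 4 * j * (j + 1) := by
      rw [hj, show (2 * j + 1) ^ 2 = 4 * j * (j + 1) + 1 by ring, Nat.add_sub_cancel]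
    rw [h2] at h1
    nlinarith
  have hK : ∃ (K : Type) (_ : Field K) (_ : Fintype K),
      Fintype.card K = q ∧ Nonempty (G ≃* Matrix.ProjectiveSpecialLinearGroup (Fin 2) K) := by
    rcases Nat.even_or_odd j with hje | hjo
    · have hn : Odd (j + 1) := hje.add_one
      exact OddData.exists_psl
        { hp := hp, hp2 := hp2, hq := ⟨f, hf⟩, h5 := by omega, hn := hn,
          hn3 := by rcases hje with ⟨i, hi⟩; omega
          hm := hje, hm2 := by rcases hje with ⟨i, hi⟩; omega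
          rel := Or.inl ⟨hj, by omega⟩
          card := by rw [hG]; ring
          spec := hspec }
    · exact OddData.exists_psl
        { hp := hp, hp2 := hp2, hq := ⟨f, hf⟩, h5 := by omega, hn := hjo,
          hn3 := by rcases hjo with ⟨i, hi⟩; omega
          hm := hjo.add_one, hm2 := by omega
          rel := Or.inr ⟨by omega, hj⟩
          card := by rw [hG]; ring
          spec := fun k => (hspec k).trans (by tauto) }
  obtain ⟨K, iF, iT, hKq, ⟨e⟩⟩ := hK
  exact ⟨e.trans (LinearGroup.pslCongr (FiniteField.ringEquivOfCardEq hKq))⟩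

end Cfsg.Agent.PSLOrders69
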